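import Groth.Agent.Lefpen.H705.ChartPoly
import Mathlib.AlgebraicGeometry.Morphisms.Smooth
import Mathlib.AlgebraicGeometry.Morphisms.ClosedImmersion

/-!
# The affine charts `i⁻¹ D_+(T_j)` of an embedded scheme and its hypersurface sections

* `coordU i j U hU : MvPolynomial (Fin r) k →+* Γ(X, U)`: the affine coordinates on `U ≤ i⁻¹ D_+(T_j)`.
* `eqn_eq`: `i^*(G / T_j^d)` is the dehomogenized polynomial evaluated at the coordinates.
* `coordU_C`: constants come from the structure morphism to `Spec k`.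
* `coordU_surjective`: for a closed immersion, the coordinates generate the functions on `i⁻¹ D_+(T_j)`.
* `smoothOfRelativeDimension_secToSpec`: smoothness of a hypersurface section from the charts.
-/

set_option autoImplicit false
universe u

open CategoryTheory AlgebraicGeometry Limits TopologicalSpace Opposite

namespace Groth.Agent.Lefpen.H708.Geo

open LefPen Groth.Agent.Lefpen.H705.HypIdeal Groth.Agent.Lefpen.H705.SecIdeal
open Groth.Agent.Lefpen.H705.ChartPoly Groth.Agent.Sga5

variable {r : ℕ} {k : Type u} [Field k] {d : ℕ} {X : Scheme.{u}} (i : X ⟶ CohB1.ProjSpace r k)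

/-- Constants on the standard chart of projective space. -/
theorem toSpec_appLE (j : Fin (r + 1)) (a : k) :
    ((CohB1.ProjSpace.toSpec r k).appLE ⊤ (chart r k j) le_top).hom
      ((Scheme.ΓSpecIso (CommRingCat.of k)).inv.hom a) = polyToChart j (MvPolynomial.C a) := by
  have hinj : Function.Injective
      ((ProjSmooth.chart r k j).appLE (LefPen.chart r k j) ⊤ (top_le_preimage j)).hom := by
    intro x y hxy
    obtain ⟨x, rfl⟩ := (polyToChart_bijective j).2 x
    obtain ⟨y, rfl⟩ := (polyToChart_bijective j).2 y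
    rw [chart_appLE_polyToChart, chart_appLE_polyToChart] at hxy
    have := (ConcreteCategory.bijective_of_isIso
      (Scheme.ΓSpecIso (CommRingCat.of (MvPolynomial (Fin r) k))).inv).1 hxy
    rw [this]
  apply hinj
  rw [chart_appLE_polyToChart]
  have h1 := Scheme.Hom.appLE_comp_appLE (ProjSmooth.chart r k j) (CohB1.ProjSpace.toSpec r k)
    ⊤ (LefPen.chart r k j) ⊤ le_top (top_le_preimage j)
  have h2 : ((ProjSmooth.chart r k j).appLE (LefPen.chart r k j) ⊤ (top_le_preimage j)).hom
      (((CohB1.ProjSpace.toSpec r k).appLE ⊤ (chart r k j) le_top).hom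
      ((Scheme.ΓSpecIso (CommRingCat.of k)).inv.hom a)) =
      ((ProjSmooth.chart r k j ≫ CohB1.ProjSpace.toSpec r k).appLE ⊤ ⊤ le_top).hom
        ((Scheme.ΓSpecIso (CommRingCat.of k)).inv.hom a) := by
    rw [← h1]; rfl
  rw [h2]
  have h3 : (ProjSmooth.chart r k j ≫ CohB1.ProjSpace.toSpec r k).appLE ⊤ ⊤ le_top =
      (Spec.map (CommRingCat.ofHom (MvPolynomial.C : k →+* MvPolynomial (Fin r) k))).appTop := by
    have h5 : ∀ {A B : Scheme.{u}} (f g : A ⟶ B) (_ : f = g), f.appLE ⊤ ⊤ le_top = g.appTop := by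
      rintro A B f _ rfl
      exact Scheme.Hom.appLE_eq_app f (U := ⊤)
    exact h5 _ _ (ProjSmooth.chart_toSpec r k j)
  rw [h3]
  have h4 := Scheme.ΓSpecIso_inv_naturality
    (CommRingCat.ofHom (MvPolynomial.C : k →+* MvPolynomial (Fin r) k))
  exact (congrArg (fun t => t.hom a) h4).symm

/-- The affine coordinates on an open of `i⁻¹ D_+(T_j)`. -/
noncomputable def coordU (j : Fin (r + 1)) (U : X.Opens) (hU : U ≤ i ⁻¹ᵁ chart r k j) :
    MvPolynomial (Fin r) k →+* Γ(X, U) :=
  (i.appLE (chart r k j) U hU).hom.comp (polyToChart j)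

theorem eqn_eq (j : Fin (r + 1)) (U : X.Opens) (hU : U ≤ i ⁻¹ᵁ chart r k j) (G : Form r k d) :
    eqn i j U hU G = coordU i j U hU (ProjChart.dehom r k j G.1) := by
  rw [eqn, dehom_eq]
  rfl

theorem coordU_C (j : Fin (r + 1)) (U : X.Opens) (hU : U ≤ i ⁻¹ᵁ chart r k j) :
    (coordU i j U hU).comp MvPolynomial.C =
      ((i ≫ CohB1.ProjSpace.toSpec r k).appLE ⊤ U le_top).hom.comp
        (Scheme.ΓSpecIso (CommRingCat.of k)).inv.hom := by
  ext a
  rw [RingHom.comp_apply, coordU, RingHom.comp_apply, ← toSpec_appLE]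
  have h1 := Scheme.Hom.appLE_comp_appLE i (CohB1.ProjSpace.toSpec r k)
    ⊤ (LefPen.chart r k j) U le_top hU
  rw [← h1]
  rfl

theorem coordU_surjective [IsClosedImmersion i] (j : Fin (r + 1)) :
    Function.Surjective (coordU i j (i ⁻¹ᵁ chart r k j) le_rfl) := by
  rw [coordU, RingHom.coe_comp]
  refine Function.Surjective.comp ?_ (polyToChart_bijective j).2
  have h := Scheme.Hom.app_surjective i _ (isAffineOpen_chart (r := r) (k := k) j)
  rwa [← Scheme.Hom.appLE_eq_app] at h

theorem iSup_preimage_chart : ⨆ j : Fin (r + 1), i ⁻¹ᵁ chart r k j = ⊤ := by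
  rw [← Scheme.Hom.preimage_iSup, iSup_chart]
  rfl

/-- Smoothness of a section by hypersurfaces can be checked on the charts. -/
theorem smoothOfRelativeDimension_secToSpec [IsAffineHom i] (s : Set (Form r k d)) (m : ℕ)
    (h : ∀ j : Fin (r + 1), RingHom.Locally (RingHom.IsStandardSmoothOfRelativeDimension m)
      ((Ideal.Quotient.mk (Ideal.span (eqn i j (i ⁻¹ᵁ chart r k j) le_rfl '' s))).comp
        ((coordU i j (i ⁻¹ᵁ chart r k j) le_rfl).comp MvPolynomial.C))) :
    SmoothOfRelativeDimension m (secToSpec i s) := by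
  have hRI := RingHom.isStandardSmoothOfRelativeDimension_respectsIso (n := m)
  have hL := RingHom.locally_respectsIso hRI
  let U : Fin (r + 1) → X.affineOpens := fun j =>
    ⟨i ⁻¹ᵁ chart r k j, (isAffineOpen_chart j).preimage i⟩
  let V : Fin (r + 1) → (Sec i s).affineOpens := fun j =>
    ⟨secι i s ⁻¹ᵁ (U j).1, (U j).2.preimage (secι i s)⟩
  refine HasRingHomProperty.of_iSup_eq_top (P := @SmoothOfRelativeDimension m) V ?_ ?_
  · change ⨆ j, secι i s ⁻¹ᵁ (i ⁻¹ᵁ chart r k j) = ⊤
    rw [← Scheme.Hom.preimage_iSup, iSup_preimage_chart]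
    rfl
  · intro j
    have h1 := h j
    have hI := secIdeal_ideal_of_le i s j (U j) le_rfl
    rw [coordU_C] at h1
    have h2 : (secToSpec i s).appLE ⊤ (V j).1 le_top =
        (i ≫ CohB1.ProjSpace.toSpec r k).appLE ⊤ (U j).1 le_top ≫ (secι i s).app (U j).1 := by
      rw [Scheme.Hom.app_eq_appLE]
      exact (Scheme.Hom.appLE_comp_appLE _ _ _ _ _ _ _).symm
    have h3 : (secι i s).app (U j).1 = CommRingCat.ofHom (Ideal.Quotient.mk ((secIdeal i s).ideal (U j))) ≫
      ((secIdeal i s).subschemeObjIso (U j)).inv := (secIdeal i s).subschemeι_app (U j)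
    rw [h2, h3, ← Category.assoc, CommRingCat.hom_comp, hL.cancel_right_isIso, CommRingCat.hom_comp,
      CommRingCat.hom_ofHom]
    have h4 := (hL.cancel_left_isIso (Scheme.ΓSpecIso (CommRingCat.of k)).inv
      ((i ≫ CohB1.ProjSpace.toSpec r k).appLE ⊤ (U j).1 le_top ≫
        CommRingCat.ofHom (Ideal.Quotient.mk ((secIdeal i s).ideal (U j)))))
    rw [CommRingCat.hom_comp, CommRingCat.hom_ofHom] at h4
    refine h4.mp ?_
    rw [RingHom.comp_assoc]
    have h5 : ∀ (I J : Ideal Γ(X, (U j).1)) (_ : I = J) (φ : k →+* Γ(X, (U j).1)),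
        RingHom.Locally (RingHom.IsStandardSmoothOfRelativeDimension m) ((Ideal.Quotient.mk I).comp φ) →
        RingHom.Locally (RingHom.IsStandardSmoothOfRelativeDimension m) ((Ideal.Quotient.mk J).comp φ) := by
      rintro I J rfl φ h
      exact h
    exact h5 _ _ hI.symm _ h1

end Groth.Agent.Lefpen.H708.Geo
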