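import Groth.Agent.Lefpen.H708.ChartLocal

/-!
# Generic smoothness of the members of a linear system on a smooth affine chart
-/

set_option autoImplicit false

namespace Groth.Agent.Lefpen.H708.ChartGeneric

open TensorProduct KaehlerDifferential

universe u v w

/-- The quotient of a localization away from `g` by an extended ideal is the localization of the
quotient away from the image of `g`. -/
theorem isLocalizationAway_quotient {B T : Type u} [CommRing B] [CommRing T] [Algebra B T] (g : B)
    [IsLocalization.Away g T] (I : Ideal B) :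
    IsLocalization.Away (Ideal.Quotient.mk I g) (T ⧸ I.map (algebraMap B T)) := by
  have h1 : IsLocalization (Algebra.algebraMapSubmonoid (B ⧸ I) (Submonoid.powers g))
    (T ⧸ I.map (algebraMap B T)) := inferInstance
  have h2 : Algebra.algebraMapSubmonoid (B ⧸ I) (Submonoid.powers g) =
      Submonoid.powers (Ideal.Quotient.mk I g) := by
    rw [Algebra.algebraMapSubmonoid, Submonoid.map_powers]
    rfl
  rw [h2] at h1
  exact h1

/-- `D (w α)` generation passes to localizations. -/
theorem span_localization (k B A : Type u) [Field k] [CommRing B] [CommRing A] [Algebra k B]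
    [Algebra k A] [Algebra B A] [IsScalarTower k B A] (S : Submonoid B) [IsLocalization S A]
    {ι : Type} (w : ι → B)
    (hw : Submodule.span B (Set.range fun α => (w α, D k B (w α))) = ⊤) :
    Submodule.span A (Set.range fun α => (algebraMap B A (w α), D k A (algebraMap B A (w α)))) =
      ⊤ := by
  let f : B × Ω[B⁄k] →ₗ[B] A × Ω[A⁄k] := (Algebra.linearMap B A).prodMap (map k k B A)
  have h1 : IsLocalizedModule S (map k k B A) := inferInstance
  let N := Submodule.span A (Set.range fun α =>
    (algebraMap B A (w α), D k A (algebraMap B A (w α))))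
  have h2 : ∀ z, f z ∈ N := by
    intro z
    have hz : z ∈ Submodule.span B (Set.range fun α => (w α, D k B (w α))) := by rw [hw]; trivial
    have hle : Submodule.span B (Set.range fun α => (w α, D k B (w α))) ≤
        (N.restrictScalars B).comap f := by
      rw [Submodule.span_le]
      rintro _ ⟨α, rfl⟩
      change (algebraMap B A (w α), map k k B A (D k B (w α))) ∈ N
      rw [KaehlerDifferential.map_D]
      exact Submodule.subset_span ⟨α, rfl⟩
    exact hle hz
  rw [eq_top_iff]
  rintro ⟨a, ω⟩ -
  have h3 : (a, (0 : Ω[A⁄k])) ∈ N := by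
    have h4 := h2 (1, 0)
    have h5 : f (1, 0) = (1, 0) := by simp [f]
    rw [h5] at h4
    have h6 := N.smul_mem a h4
    simpa using h6
  have h7 : ((0 : A), ω) ∈ N := by
    obtain ⟨⟨ω', s⟩, hs⟩ := IsLocalizedModule.surj S (map k k B A) ω
    have h4 := h2 (0, ω')
    have h5 : f (0, ω') = (0, map k k B A ω') := by simp [f]
    rw [h5, ← hs] at h4
    obtain ⟨u, hu⟩ := IsLocalization.map_units A s
    have h6 := N.smul_mem (↑u⁻¹ : A) h4
    have h8 : s • ω = (u : A) • ω := by
      rw [hu]
      change (s : B) • ω = _
      rw [algebraMap_smul]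
    rw [h8, Prod.smul_mk, smul_smul, Units.inv_mul, one_smul, smul_zero] at h6
    exact h6
  have h9 := N.add_mem h3 h7
  simpa using h9

theorem exists_nhd (k B : Type u) [Field k] [IsAlgClosed k] [CommRing B] [IsDomain B]
    [Algebra k B] (m : ℕ)
    (hB : RingHom.Locally (RingHom.IsStandardSmoothOfRelativeDimension (m + 1)) (algebraMap k B))
    {ι : Type} [Fintype ι] (w : ι → B)
    (hw : Submodule.span B (Set.range fun α => (w α, D k B (w α))) = ⊤) (p : Ideal B)
    [hp : p.IsPrime] :
    ∃ (g : B) (f : MvPolynomial ι k), g ∉ p ∧ f ≠ 0 ∧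
      ∀ c : ι → k, MvPolynomial.eval c f ≠ 0 →
        ∃ (T : Type u) (_ : CommRing T) (_ : Algebra B T) (_ : IsLocalization.Away g T),
        RingHom.Locally (RingHom.IsStandardSmoothOfRelativeDimension m)
          ((algebraMap B (T ⧸ (Ideal.span {∑ α, c α • w α}).map (algebraMap B T))).comp
            (algebraMap k B)) := by
  obtain ⟨s, hs, hst⟩ := hB
  obtain ⟨t, hts, htp⟩ : ∃ t ∈ s, t ∉ p := by
    by_contra hcon
    push Not at hcon
    apply hp.ne_top
    rw [eq_top_iff, ← hs, Ideal.span_le]
    exact hcon
  let A := Localization.Away t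
  have hA : Algebra.IsStandardSmoothOfRelativeDimension (m + 1) k A := by
    rw [← RingHom.isStandardSmoothOfRelativeDimension_algebraMap,
      IsScalarTower.algebraMap_eq k B A]
    exact hst t hts
  have ht0 : t ≠ 0 := fun h => htp (h ▸ p.zero_mem)
  have hdom : IsDomain A :=
    IsLocalization.isDomain_localization (powers_le_nonZeroDivisors_of_noZeroDivisors ht0)
  have hpA : (p.map (algebraMap B A)).IsPrime := by
    apply IsLocalization.isPrime_of_isPrime_disjoint (.powers t) _ _ hp
    rwa [Ideal.disjoint_powers_iff_notMem_of_isPrime]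
  have hwA := span_localization k B A (Submonoid.powers t) w hw
  obtain ⟨δ, f, hδ, hf0, hf⟩ := ChartLocal.nhd_stdSmooth k A m (fun α => algebraMap B A (w α)) hwA
    (p.map (algebraMap B A))
  have hloc : IsLocalization.Away (t * (IsLocalization.Away.sec t δ).1) (Localization.Away δ) :=
    .mul_of_associated _ _ δ <| IsLocalization.Away.associated_sec_fst t δ
  refine ⟨t * (IsLocalization.Away.sec t δ).1, f, ?_, hf0, fun c hc => ?_⟩
  · refine Ideal.IsPrime.mul_notMem ‹_› htp fun hmem ↦ hδ ?_
    rw [Ideal.mem_iff_of_associated (IsLocalization.Away.associated_sec_fst t δ).symm]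
    exact Ideal.mem_map_of_mem (algebraMap B A) hmem
  · refine ⟨Localization.Away δ, inferInstance, inferInstance, hloc, ?_⟩
    have h1 := hf c hc
    have h2 : Ideal.span {algebraMap A (Localization.Away δ)
        (∑ α, c α • (algebraMap B A (w α)))} =
        (Ideal.span {∑ α, c α • w α}).map (algebraMap B (Localization.Away δ)) := by
      rw [Ideal.map_span, Set.image_singleton,
        IsScalarTower.algebraMap_apply B A (Localization.Away δ)]
      congr 3
      simp [Algebra.smul_def, ← IsScalarTower.algebraMap_apply]
    rw [h2] at h1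
    convert h1 using 1
    ext r
    rfl

/-- On a smooth affine chart `Spec B` of dimension `m + 1` over an algebraically closed field, with a linear
system `w` separating first order jets, the general member is smooth of dimension `m`. -/
theorem chart_generic (k B : Type u) [Field k] [IsAlgClosed k] [CommRing B] [IsDomain B]
    [Algebra k B] (m : ℕ)
    (hB : RingHom.Locally (RingHom.IsStandardSmoothOfRelativeDimension (m + 1)) (algebraMap k B))
    {ι : Type} [Fintype ι] (w : ι → B)
    (hw : Submodule.span B (Set.range fun α => (w α, D k B (w α))) = ⊤) :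
    ∃ f : MvPolynomial ι k, f ≠ 0 ∧ ∀ c : ι → k, MvPolynomial.eval c f ≠ 0 →
      RingHom.Locally (RingHom.IsStandardSmoothOfRelativeDimension m)
        (algebraMap k (B ⧸ Ideal.span {∑ α, c α • w α})) := by
  classical
  have key := fun p : PrimeSpectrum B => exists_nhd k B m hB w hw p.asIdeal
  choose g f hg hf0 hf using key
  have hspan : Ideal.span (Set.range g) = ⊤ := by
    by_contra hne
    obtain ⟨M, hM, hle⟩ := Ideal.exists_le_maximal _ hne
    exact hg ⟨M, hM.isPrime⟩ (hle (Ideal.subset_span ⟨_, rfl⟩))
  obtain ⟨s, hs, hs'⟩ := (Ideal.span_eq_top_iff_finite _).mp hspan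
  choose! q hq using fun (t : B) (ht : t ∈ s) => (hs ht : t ∈ Set.range g)
  refine ⟨∏ t ∈ s, f (q t), Finset.prod_ne_zero_iff.mpr fun t _ => hf0 _, fun c hc => ?_⟩
  rw [map_prod, Finset.prod_ne_zero_iff] at hc
  let I : Ideal B := Ideal.span {∑ α, c α • w α}
  have hRI := RingHom.isStandardSmoothOfRelativeDimension_respectsIso (n := m)
  refine RingHom.OfLocalizationSpanTarget.ofIsLocalization
    (RingHom.locally_ofLocalizationSpanTarget hRI) (RingHom.locally_respectsIso hRI)
    (algebraMap k (B ⧸ I)) (Ideal.Quotient.mk I '' (s : Set B)) ?_ ?_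
  · rw [← Ideal.map_span, hs', Ideal.map_top]
  · rintro ⟨_, t, ht, rfl⟩
    obtain ⟨T, _, _, hT, hsm⟩ := hf (q t) c (hc t ht)
    rw [hq t ht] at hT
    have := isLocalizationAway_quotient t (T := T) I
    refine ⟨T ⧸ I.map (algebraMap B T), inferInstance, inferInstance, this, ?_⟩
    convert hsm using 1
    ext r
    rfl

end Groth.Agent.Lefpen.H708.ChartGeneric
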