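import Groth.Agent.Lefpen.H708.Geo
import Groth.Agent.Lefpen.H708.ChartGeneric
import Groth.Agent.Lefpen.H702.PolyFun
import Groth.Agent.Etcore.SmoothRed

/-!
# A general hypersurface section of a smooth embedded variety is smooth
-/

set_option autoImplicit false
universe u

open CategoryTheory AlgebraicGeometry Limits TopologicalSpace Opposite

namespace Groth.Agent.Lefpen.H708.Transversal

open LefPen Groth.Agent.Lefpen.H705.HypIdeal Groth.Agent.Lefpen.H705.SecIdeal
open Groth.Agent.Lefpen.H705.ChartPoly Groth.Agent.Sga5 Groth.Agent.Lefpen.H708.Geo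
open KaehlerDifferential

variable {r : ℕ} {k : Type u} [Field k] {d : ℕ} {X : Scheme.{u}} (i : X ⟶ CohB1.ProjSpace r k)

/-- The linear map `G ↦ π (dehom G)` for a `k`-algebra homomorphism `π` from the polynomial ring. -/
noncomputable def eqnL {B : Type u} [CommRing B] [Algebra k B] (π : MvPolynomial (Fin r) k →ₐ[k] B)
    (d : ℕ) (j : Fin (r + 1)) : Form r k d →ₗ[k] B where
  toFun G := π (ProjChart.dehom r k j G.1)
  map_add' G H := by simp
  map_smul' a G := by
    simp only [SetLike.val_smul, RingHom.id_apply]
    rw [MvPolynomial.smul_eq_C_mul, map_mul, ProjChart.dehom_C, map_mul, ← MvPolynomial.algebraMap_eq,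
      AlgHom.commutes, Algebra.smul_def]

theorem span_eq_top {B : Type u} [CommRing B] [Algebra k B] (π : MvPolynomial (Fin r) k →ₐ[k] B)
    (hπ : Function.Surjective π) (hd : 1 ≤ d) (j : Fin (r + 1)) {ι : Type} [Fintype ι] [DecidableEq ι]
    (co : Form r k d ≃ₗ[k] (ι → k)) :
    Submodule.span B (Set.range fun α : ι => (eqnL π d j (co.symm (Pi.single α 1)),
      D k B (eqnL π d j (co.symm (Pi.single α 1))))) = ⊤ := by
  set N := Submodule.span B (Set.range fun α : ι => (eqnL π d j (co.symm (Pi.single α 1)),
      D k B (eqnL π d j (co.symm (Pi.single α 1))))) with hN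
  have h1 : ∀ G : Form r k d, (eqnL π d j G, D k B (eqnL π d j G)) ∈ N := by
    intro G
    have hG : G = ∑ α, (co G α) • co.symm (Pi.single α 1) := by
      apply co.injective
      rw [map_sum]
      simp only [map_smul, LinearEquiv.apply_symm_apply]
      ext β
      simp [Finset.sum_apply, Pi.single_apply]
    have h2 : (eqnL π d j G, D k B (eqnL π d j G)) =
        ∑ α, (algebraMap k B (co G α)) • (eqnL π d j (co.symm (Pi.single α 1)),
          D k B (eqnL π d j (co.symm (Pi.single α 1)))) := by
      conv_lhs => rw [hG]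
      simp only [map_sum, map_smul, algebraMap_smul]
      ext
      · simp [Prod.fst_sum]
      · simp [Prod.snd_sum]
    rw [h2]
    exact Submodule.sum_mem _ fun α _ => Submodule.smul_mem _ _ (Submodule.subset_span ⟨α, rfl⟩)
  have h0 : ((1 : B), (0 : Ω[B⁄k])) ∈ N := by
    let G : Form r k d := ⟨MvPolynomial.X j ^ d, (MvPolynomial.mem_homogeneousSubmodule _ _).mpr
      (MvPolynomial.isHomogeneous_X_pow j d)⟩
    have h2 := h1 G
    have h3 : eqnL π d j G = 1 := by
      change π (ProjChart.dehom r k j (MvPolynomial.X j ^ d)) = 1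
      simp
    rw [h3, Derivation.map_one_eq_zero] at h2
    exact h2
  have hx : ∀ l : Fin r, ((0 : B), D k B (π (MvPolynomial.X l))) ∈ N := by
    intro l
    let G : Form r k d := ⟨MvPolynomial.X j ^ (d - 1) * MvPolynomial.X (j.succAbove l),
      (MvPolynomial.mem_homogeneousSubmodule _ _).mpr (by
        have := (MvPolynomial.isHomogeneous_X_pow (R := k) j (d - 1)).mul
          (MvPolynomial.isHomogeneous_X k (j.succAbove l))
        rwa [Nat.sub_add_cancel hd] at this)⟩
    have h2 := h1 G
    have h3 : eqnL π d j G = π (MvPolynomial.X l) := by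
      change π (ProjChart.dehom r k j (MvPolynomial.X j ^ (d - 1) * MvPolynomial.X (j.succAbove l))) = _
      simp
    rw [h3] at h2
    have h4 := N.sub_mem h2 (N.smul_mem (π (MvPolynomial.X l)) h0)
    simpa using h4
  have hp : ∀ p : MvPolynomial (Fin r) k, ((0 : B), D k B (π p)) ∈ N := by
    intro p
    induction p using MvPolynomial.induction_on with
    | C a =>
      have : D k B (π (MvPolynomial.C a)) = 0 := by
        rw [← MvPolynomial.algebraMap_eq, AlgHom.commutes, Derivation.map_algebraMap]
      rw [this]
      exact N.zero_mem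
    | add p q hp hq =>
      have := N.add_mem hp hq
      simpa using this
    | mul_X p l hp =>
      have h5 := N.add_mem (N.smul_mem (π p) (hx l)) (N.smul_mem (π (MvPolynomial.X l)) hp)
      have h6 : D k B (π (p * MvPolynomial.X l)) =
          π p • D k B (π (MvPolynomial.X l)) + π (MvPolynomial.X l) • D k B (π p) := by
        rw [map_mul, Derivation.leibniz]
      rw [h6]
      simpa using h5
  have hω : ∀ ω : Ω[B⁄k], ((0 : B), ω) ∈ N := by
    intro ω
    have h7 : ω ∈ Submodule.span B (Set.range (D k B)) := by
      rw [span_range_derivation]; trivial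
    induction h7 using Submodule.span_induction with
    | mem x hx =>
      obtain ⟨b, rfl⟩ := hx
      obtain ⟨p, rfl⟩ := hπ b
      exact hp p
    | zero => exact N.zero_mem
    | add x y _ _ hx hy =>
      have := N.add_mem hx hy
      simpa using this
    | smul a x _ hx =>
      have := N.smul_mem a hx
      simpa using this
  rw [eq_top_iff]
  rintro ⟨a, ω⟩ -
  have h8 := N.add_mem (N.smul_mem a h0) (hω ω)
  simpa using h8

/-- On one chart: the general hypersurface section is smooth. -/
theorem isGeneric_chart [IsAlgClosed k] [IsClosedImmersion i] [IrreducibleSpace X] (m : ℕ)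
    [SmoothOfRelativeDimension (m + 1) (i ≫ CohB1.ProjSpace.toSpec r k)] (hd : 1 ≤ d)
    (j : Fin (r + 1)) :
    LefPen.IsGeneric k {G : Form r k d |
      RingHom.Locally (RingHom.IsStandardSmoothOfRelativeDimension m)
        ((Ideal.Quotient.mk (Ideal.span (eqn i j (i ⁻¹ᵁ chart r k j) le_rfl '' {G}))).comp
          ((coordU i j (i ⁻¹ᵁ chart r k j) le_rfl).comp MvPolynomial.C))} := by
  classical
  let U := i ⁻¹ᵁ chart r k j
  let B : Type u := Γ(X, U)
  let φ : MvPolynomial (Fin r) k →+* B := coordU i j U le_rfl
  let _ : Algebra k B := (φ.comp MvPolynomial.C).toAlgebra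
  let π : MvPolynomial (Fin r) k →ₐ[k] B := { φ with commutes' := fun a => rfl }
  have hπ : Function.Surjective π := coordU_surjective i j
  have hfin : Fintype {e : Fin (r + 1) →₀ ℕ // e.degree = d} := by
    have h1 : {e : Fin (r + 1) →₀ ℕ | e.degree = d}.Finite := by
      have h2 : ((Finset.univ : Finset (Fin (r + 1))).finsuppAntidiag d : Set (Fin (r + 1) →₀ ℕ)).Finite :=
        Finset.finite_toSet _
      refine h2.subset fun e he ↦ ?_
      rw [Finset.mem_coe, Finset.mem_finsuppAntidiag]
      refine ⟨?_, by simp⟩
      rw [← he, Finsupp.degree_eq_sum]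
    have h3 : Finite {e : Fin (r + 1) →₀ ℕ // e.degree = d} := h1.to_subtype
    exact Fintype.ofFinite _
  have heqn : ∀ G : Form r k d, eqn i j U le_rfl G = eqnL π d j G := fun G => eqn_eq i j U le_rfl G
  rcases subsingleton_or_nontrivial B with hB | hB
  · refine Groth.Agent.Lefpen.H702.PolyFun.IsGeneric.mono
      Groth.Agent.Lefpen.H702.PolyFun.isGeneric_univ fun G _ => ?_
    refine ⟨∅, ?_, by simp⟩
    have : Subsingleton (B ⧸ Ideal.span (eqn i j U le_rfl '' {G})) :=
      Ideal.Quotient.mk_surjective.subsingleton
    exact Subsingleton.elim _ _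
  · have hsm : Smooth (i ≫ CohB1.ProjSpace.toSpec r k) :=
      SmoothOfRelativeDimension.smooth (m + 1) _
    have hred : IsReduced X := Groth.Agent.Etcore.SmoothRed.isReduced_of_smooth
      (i ≫ CohB1.ProjSpace.toSpec r k)
    have hint : IsIntegral X := isIntegral_of_irreducibleSpace_of_isReduced X
    have hne : Nonempty U := by
      by_contra hcon
      have hU : U = ⊥ := by
        ext x
        simp only [Opens.coe_bot, Set.mem_empty_iff_false, iff_false]
        exact fun hx => hcon ⟨⟨x, hx⟩⟩
      have : Subsingleton B := by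
        change Subsingleton Γ(X, U)
        rw [hU]
        infer_instance
      exact not_subsingleton B this
    have hdom : IsDomain B := by
      change IsDomain Γ(X, U)
      infer_instance
    have hloc : RingHom.Locally (RingHom.IsStandardSmoothOfRelativeDimension (m + 1))
        (algebraMap k B) := by
      have h1 := HasRingHomProperty.appLE (@SmoothOfRelativeDimension (m + 1))
        (i ≫ CohB1.ProjSpace.toSpec r k) inferInstance ⟨⊤, isAffineOpen_top _⟩
        ⟨U, (isAffineOpen_chart j).preimage i⟩ le_top
      have hL := RingHom.locally_respectsIso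
        (RingHom.isStandardSmoothOfRelativeDimension_respectsIso (n := m + 1))
      have h2 := (hL.cancel_left_isIso (Scheme.ΓSpecIso (CommRingCat.of k)).inv
        ((i ≫ CohB1.ProjSpace.toSpec r k).appLE ⊤ U le_top)).mpr h1
      have h3 : algebraMap k B = ((i ≫ CohB1.ProjSpace.toSpec r k).appLE ⊤ U le_top).hom.comp
        (Scheme.ΓSpecIso (CommRingCat.of k)).inv.hom := coordU_C i j U le_rfl
      rw [h3]
      exact h2
    let co := Groth.Agent.Lefpen.H702.PolyFun.formCoords r k d
    obtain ⟨f, hf0, hf⟩ := ChartGeneric.chart_generic k B m hloc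
      (fun α => eqnL π d j (co.symm (Pi.single α 1))) (span_eq_top π hπ hd j co)
    refine Groth.Agent.Lefpen.H702.PolyFun.isGeneric_of_mvPolynomial co hf0 fun G hG => ?_
    have h4 := hf (co G) (by
      rw [MvPolynomial.aeval_eq_eval] at hG
      exact hG)
    have h5 : ∑ α, co G α • eqnL π d j (co.symm (Pi.single α 1)) = eqnL π d j G := by
      have hG' : G = ∑ α, (co G α) • co.symm (Pi.single α 1) := by
        apply co.injective
        rw [map_sum]
        simp only [map_smul, LinearEquiv.apply_symm_apply]
        ext β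
        simp [Finset.sum_apply, Pi.single_apply]
      conv_rhs => rw [hG']
      simp only [map_sum, map_smul]
    rw [h5] at h4
    have h6 : eqn i j U le_rfl '' {G} = {eqnL π d j G} := by
      rw [Set.image_singleton, heqn]
    change RingHom.Locally _ ((Ideal.Quotient.mk (Ideal.span (eqn i j U le_rfl '' {G}))).comp (algebraMap k B))
    rw [h6]
    exact h4

/-- The general hypersurface section is smooth of dimension one less. -/
theorem isGeneric_smooth [IsAlgClosed k] [IsClosedImmersion i] [IrreducibleSpace X] (m : ℕ)
    [SmoothOfRelativeDimension (m + 1) (i ≫ CohB1.ProjSpace.toSpec r k)] (hd : 1 ≤ d) :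
    LefPen.IsGeneric k {G : Form r k d |
      SmoothOfRelativeDimension m (secToSpec i ({G} : Set (Form r k d)))} := by
  refine Groth.Agent.Lefpen.H702.PolyFun.IsGeneric.mono
    (Groth.Agent.Lefpen.H702.PolyFun.IsGeneric.iInter (isGeneric_chart i m hd)) ?_
  intro G hG
  rw [Set.mem_iInter] at hG
  exact smoothOfRelativeDimension_secToSpec i {G} m hG

end Groth.Agent.Lefpen.H708.Transversal
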