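import Groth.Agent.Lefpen.H708.BertiniAlg
import Groth.Agent.Lefpen.H708.Transversal

/-!
# Bertini: a general hypersurface section of a smooth closed subscheme is transversal (any components)
-/

set_option autoImplicit false
universe u

open CategoryTheory AlgebraicGeometry Limits TopologicalSpace Opposite

namespace Groth.Agent.Lefpen.H708.Bertini

open LefPen Groth.Agent.Lefpen.H705.HypIdeal Groth.Agent.Lefpen.H705.SecIdeal
open Groth.Agent.Lefpen.H705.ChartPoly Groth.Agent.Sga5 Groth.Agent.Lefpen.H708.Geo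
open KaehlerDifferential Groth.Agent.Lefpen.H708.Transversal Groth.Agent.Lefpen.H708.BertiniAlg

variable {r : ℕ} {k : Type u} [Field k] {d : ℕ} {X : Scheme.{u}} (i : X ⟶ CohB1.ProjSpace r k)

/-- A section is empty as soon as it is empty on the charts. -/
theorem isEmpty_sec [IsAffineHom i] (s : Set (Form r k d))
    (h : ∀ j : Fin (r + 1), Subsingleton
      (Γ(X, i ⁻¹ᵁ chart r k j) ⧸ Ideal.span (eqn i j (i ⁻¹ᵁ chart r k j) le_rfl '' s))) :
    IsEmpty (Sec i s) := by
  constructor
  intro y
  obtain ⟨j, hj⟩ : ∃ j, (secι i s) y ∈ i ⁻¹ᵁ chart r k j := by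
    have := (iSup_preimage_chart i).ge (Set.mem_univ ((secι i s) y))
    exact Opens.mem_iSup.mp this
  let U : X.affineOpens := ⟨i ⁻¹ᵁ chart r k j, (isAffineOpen_chart j).preimage i⟩
  have hI := secIdeal_ideal_of_le i s j U le_rfl
  have h1 := h j
  rw [Ideal.Quotient.subsingleton_iff] at h1
  have h2 : (secIdeal i s).ideal U = ⊤ := by rw [hI]; exact h1
  have h3 : (secι i s) y ∈ (secIdeal i s).support := by
    rw [← SetLike.mem_coe, ← Scheme.IdealSheafData.range_subschemeι]
    exact ⟨y, rfl⟩
  have h4 := (Scheme.IdealSheafData.mem_support_iff_of_mem (U := U) hj).mp h3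
  rw [h2] at h4
  simp at h4
  exact h4 hj

/-- On one chart: the general hypersurface section is good. -/
theorem isGeneric_chart [IsAlgClosed k] [IsClosedImmersion i] (n : ℕ)
    [SmoothOfRelativeDimension n (i ≫ CohB1.ProjSpace.toSpec r k)] (hd : 1 ≤ d)
    (j : Fin (r + 1)) :
    LefPen.IsGeneric k {G : Form r k d |
      Good k n ((Ideal.Quotient.mk (Ideal.span (eqn i j (i ⁻¹ᵁ chart r k j) le_rfl '' {G}))).comp
          ((coordU i j (i ⁻¹ᵁ chart r k j) le_rfl).comp MvPolynomial.C))} := by
  classical
  let U := i ⁻¹ᵁ chart r k j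
  let B : Type u := Γ(X, U)
  let φ : MvPolynomial (Fin r) k →+* B := coordU i j U le_rfl
  let _ : Algebra k B := (φ.comp MvPolynomial.C).toAlgebra
  let π : MvPolynomial (Fin r) k →ₐ[k] B := { φ with commutes' := fun a => rfl }
  have hπ : Function.Surjective π := coordU_surjective i j
  have hfin : Fintype {e : Fin (r + 1) →₀ ℕ // e.degree = d} := by
    have h1 : {e : Fin (r + 1) →₀ ℕ | e.degree = d}.Finite := by
      have h2 : ((Finset.univ : Finset (Fin (r + 1))).finsuppAntidiag d : Set (Fin (r + 1) →₀ ℕ)).Finite :=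
        Finset.finite_toSet _
      refine h2.subset fun e he ↦ ?_
      rw [Finset.mem_coe, Finset.mem_finsuppAntidiag]
      refine ⟨?_, by simp⟩
      rw [← he, Finsupp.degree_eq_sum]
    have h3 : Finite {e : Fin (r + 1) →₀ ℕ // e.degree = d} := h1.to_subtype
    exact Fintype.ofFinite _
  have heqn : ∀ G : Form r k d, eqn i j U le_rfl G = eqnL π d j G := fun G => eqn_eq i j U le_rfl G
  have hloc : RingHom.Locally (RingHom.IsStandardSmoothOfRelativeDimension n)
      (algebraMap k B) := by
    have h1 := HasRingHomProperty.appLE (@SmoothOfRelativeDimension n)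
      (i ≫ CohB1.ProjSpace.toSpec r k) inferInstance ⟨⊤, isAffineOpen_top _⟩
      ⟨U, (isAffineOpen_chart j).preimage i⟩ le_top
    have hL := RingHom.locally_respectsIso
      (RingHom.isStandardSmoothOfRelativeDimension_respectsIso (n := n))
    have h2 := (hL.cancel_left_isIso (Scheme.ΓSpecIso (CommRingCat.of k)).inv
      ((i ≫ CohB1.ProjSpace.toSpec r k).appLE ⊤ U le_top)).mpr h1
    have h3 : algebraMap k B = ((i ≫ CohB1.ProjSpace.toSpec r k).appLE ⊤ U le_top).hom.comp
      (Scheme.ΓSpecIso (CommRingCat.of k)).inv.hom := coordU_C i j U le_rfl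
    rw [h3]
    exact h2
  let co := Groth.Agent.Lefpen.H702.PolyFun.formCoords r k d
  obtain ⟨f, hf0, hf⟩ := BertiniAlg.chart_generic k B n hloc
    (fun α => eqnL π d j (co.symm (Pi.single α 1))) (span_eq_top π hπ hd j co)
  refine Groth.Agent.Lefpen.H702.PolyFun.isGeneric_of_mvPolynomial co hf0 fun G hG => ?_
  have h4 := hf (co G) (by
    rw [MvPolynomial.aeval_eq_eval] at hG
    exact hG)
  have h5 : ∑ α, co G α • eqnL π d j (co.symm (Pi.single α 1)) = eqnL π d j G := by
    have hG' : G = ∑ α, (co G α) • co.symm (Pi.single α 1) := by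
      apply co.injective
      rw [map_sum]
      simp only [map_smul, LinearEquiv.apply_symm_apply]
      ext β
      simp [Finset.sum_apply, Pi.single_apply]
    conv_rhs => rw [hG']
    simp only [map_sum, map_smul]
  rw [h5] at h4
  have h6 : eqn i j U le_rfl '' {G} = {eqnL π d j G} := by
    rw [Set.image_singleton, heqn]
  change Good k n ((Ideal.Quotient.mk (Ideal.span (eqn i j U le_rfl '' {G}))).comp (algebraMap k B))
  rw [h6]
  exact h4

/-- Bertini: for `X` smooth of pure relative dimension `n` over an algebraically closed field, closed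
in `P^r` (not nec. irreducible, possibly empty or of dimension zero), the general hypersurface of
degree `d ≥ 1` is transversal to `X`. -/
theorem isGeneric_transversal [IsAlgClosed k] [IsClosedImmersion i] (n : ℕ)
    [SmoothOfRelativeDimension n (i ≫ CohB1.ProjSpace.toSpec r k)] (hd : 1 ≤ d) :
    LefPen.IsGeneric k {G : Form r k d |
      LefPen.Transversal k n 1 (secToSpec i ({G} : Set (Form r k d)))} := by
  refine Groth.Agent.Lefpen.H702.PolyFun.IsGeneric.mono
    (Groth.Agent.Lefpen.H702.PolyFun.IsGeneric.iInter (isGeneric_chart i n hd)) ?_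
  intro G hG
  rw [Set.mem_iInter] at hG
  rcases Nat.eq_zero_or_pos n with rfl | hn
  · right
    refine ⟨Nat.one_pos, isEmpty_sec i _ fun j => ?_⟩
    rcases hG j with ⟨h, -⟩ | ⟨-, h⟩
    · omega
    · exact h
  · left
    refine ⟨hn, smoothOfRelativeDimension_secToSpec i {G} (n - 1) fun j => ?_⟩
    rcases hG j with ⟨-, h⟩ | ⟨h, -⟩
    · exact h
    · omega

end Groth.Agent.Lefpen.H708.Bertini
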