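import Groth.Agent.Lefpen.H708.Bertini
import Groth.Agent.Lefpen.H703.TransCrit

/-!
# Transversality of iterated sections, and generic transversality of the base locus

* `transversal_two_of_iterated`: if `F` is transversal to `X` and `G` is transversal to `X ∩ V(F)` then
  `X ∩ V(F) ∩ V(G)` is a transversal section.
* `isGeneric_transversal_two`: for `F` transversal to `X`, the section by `F` and a general `G` is transversal.
-/

set_option autoImplicit false
universe u

open CategoryTheory AlgebraicGeometry Limits TopologicalSpace Opposite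

namespace Groth.Agent.Lefpen.H708.Bertini2

open LefPen Groth.Agent.Lefpen.H705.HypIdeal Groth.Agent.Lefpen.H705.SecIdeal
open Groth.Agent.Lefpen.H703.TransCrit IsLocalRing

variable {r : ℕ} {k : Type u} [Field k] {d e : ℕ} {X : Scheme.{u}} (i : X ⟶ CohB1.ProjSpace r k)

/-- The local equation of `G` on the section by `s` is the image of the local equation on `X`. -/
theorem stalkEqn_sec (s : Set (Form r k e)) (y : Sec i s) (j : Fin (r + 1))
    (hj : i (secι i s y) ∈ chart r k j) (G : Form r k d) :
    stalkEqn (secι i s ≫ i) j y hj G =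
      ((secι i s).stalkMap y).hom (stalkEqn i j (secι i s y) hj G) := by
  rw [stalkEqn, stalkEqn]
  have h := Scheme.Hom.stalkMap_comp (secι i s) i y
  rw [h]
  rfl

/-- Transversality of the double section from the transversality of the iterated sections. -/
theorem transversal_two_of_iterated [IsAlgClosed k] (n : ℕ) (hn : 1 ≤ n)
    [SmoothOfRelativeDimension n (str i)] (F G : Form r k d)
    (hF : Transversal k n 1 (secToSpec i ({F} : Set (Form r k d))))
    (hG : Transversal k (n - 1) 1
      (secToSpec (secι i ({F} : Set (Form r k d)) ≫ i) ({G} : Set (Form r k d)))) :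
    Transversal k n 2 (secToSpec i ({F, G} : Set (Form r k d))) := by
  have hsm : SmoothOfRelativeDimension (n - 1) (str (secι i ({F} : Set (Form r k d)) ≫ i)) := by
    rcases hF with ⟨-, h⟩ | ⟨h, -⟩
    · rw [str, Category.assoc]; exact h
    · omega
  have hF1 := (transversal_one_iff i n F).mp hF
  have hG1 := (transversal_one_iff (secι i ({F} : Set (Form r k d)) ≫ i) (n - 1) G).mp hG
  refine (transversal_two_iff i n F G).mpr ?_
  intro x hx j hj hFx hGx a b hab
  obtain ⟨y, hy⟩ := exists_sec_point i ({F} : Set (Form r k d)) j x hj (by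
    rintro _ rfl
    exact hFx)
  subst hy
  have hyc := isClosed_of_secι i ({F} : Set (Form r k d)) hx
  have hGy := hG1 y hyc j hj
  have hb : b = 0 := by
    by_contra hb
    apply hGy
    rw [stalkEqn_sec]
    have h1 : ((secι i ({F} : Set (Form r k d))).stalkMap y).hom
        (toStalk k (str i) _ a * stalkEqn i j _ hj F + toStalk k (str i) _ b * stalkEqn i j _ hj G) ∈
        maximalIdeal ((Sec i ({F} : Set (Form r k d))).presheaf.stalk y) ^ 2 := by
      have h2 : maximalIdeal (X.presheaf.stalk (secι i ({F} : Set (Form r k d)) y)) ^ 2 ≤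
          (maximalIdeal ((Sec i ({F} : Set (Form r k d))).presheaf.stalk y) ^ 2).comap
            ((secι i ({F} : Set (Form r k d))).stalkMap y).hom := by
        refine le_trans (Ideal.pow_right_mono ?_ 2) (Ideal.le_comap_pow _ 2)
        have hloc : IsLocalHom ((secι i ({F} : Set (Form r k d))).stalkMap y).hom := inferInstance
        exact ((local_hom_TFAE ((secι i ({F} : Set (Form r k d))).stalkMap y).hom).out 0 3).mp hloc
      exact h2 hab
    have h3 : ((secι i ({F} : Set (Form r k d))).stalkMap y).hom (stalkEqn i j _ hj F) = 0 := by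
      have : stalkEqn i j _ hj F ∈ RingHom.ker ((secι i ({F} : Set (Form r k d))).stalkMap y).hom := by
        rw [ker_stalkMap_secι i _ y j hj]
        exact Ideal.subset_span ⟨F, rfl, rfl⟩
      exact this
    rw [map_add, map_mul, map_mul, h3, mul_zero, zero_add] at h1
    have h4 : IsUnit (((secι i ({F} : Set (Form r k d))).stalkMap y).hom
        (toStalk k (str i) _ b)) := ((IsUnit.mk0 b hb).map _).map _
    exact (Ideal.unit_mul_mem_iff_mem _ h4).mp h1
  refine ⟨?_, hb⟩
  by_contra ha
  rw [hb, map_zero, zero_mul, add_zero] at hab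
  have h5 : IsUnit (toStalk k (str i) (secι i ({F} : Set (Form r k d)) y) a) :=
    (IsUnit.mk0 a ha).map _
  exact hF1 _ hx j hj ((Ideal.unit_mul_mem_iff_mem _ h5).mp hab)

/-- For `F` transversal to `X`, the base locus of `F` and a general `G` is transversal. -/
theorem isGeneric_transversal_two [IsAlgClosed k] [IsClosedImmersion i] (n : ℕ) (hn : 1 ≤ n)
    [SmoothOfRelativeDimension n (str i)] (hd : 1 ≤ d) (F : Form r k d)
    (hF : Transversal k n 1 (secToSpec i ({F} : Set (Form r k d)))) :
    LefPen.IsGeneric k {G : Form r k d |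
      Transversal k n 2 (secToSpec i ({F, G} : Set (Form r k d)))} := by
  have hsm : SmoothOfRelativeDimension (n - 1)
      ((secι i ({F} : Set (Form r k d)) ≫ i) ≫ CohB1.ProjSpace.toSpec r k) := by
    rcases hF with ⟨-, h⟩ | ⟨h, -⟩
    · rw [Category.assoc]; exact h
    · omega
  exact Groth.Agent.Lefpen.H702.PolyFun.IsGeneric.mono
    (Bertini.isGeneric_transversal (secι i ({F} : Set (Form r k d)) ≫ i) (n - 1) hd)
    fun G hG => transversal_two_of_iterated i n hn F G hF hG

end Groth.Agent.Lefpen.H708.Bertini2
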