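import Groth.Agent.Lefpen.H708.TrdegG
import Groth.Agent.Lefpen.H708.ChartGeneric

/-!
# Generic smoothness of the members of a linear system on a smooth affine chart (no integrality)
-/

set_option autoImplicit false

namespace Groth.Agent.Lefpen.H708.BertiniAlg

open TensorProduct KaehlerDifferential

universe u v w

/-- The polynomial killing the image of the incidence locus, over the locus where a maximal minor is
invertible. -/
theorem exists_poly (k A : Type u) [Field k] [CommRing A] [Algebra k A] (n : ℕ)
    [Algebra.IsStandardSmoothOfRelativeDimension n k A] {ι : Type} [Fintype ι]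
    (v : ι → Fin (n + 1) → A) (e : Fin (n + 1) → ι) (he : Function.Injective e) :
    ∃ f : MvPolynomial ι k, f ≠ 0 ∧ ∀ (φ : A →ₐ[k] k) (c : ι → k), φ (Minor.minorMat v e).det ≠ 0 →
      (∀ i, ∑ α, c α * φ (v α i) = 0) → MvPolynomial.eval c f = 0 := by
  classical
  let τ : Type := ((Set.range e)ᶜ : Set ι)
  let σ : Fin (n + 1) ⊕ τ ≃ ι :=
    ((Equiv.ofInjective e he).sumCongr (Equiv.refl _)).trans (Equiv.Set.sumCompl (Set.range e))
  have hσl : ∀ i, σ (Sum.inl i) = e i := fun i => rfl
  have hσr : ∀ j : τ, σ (Sum.inr j) = j.1 := fun i => rfl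
  let M := Minor.minorMat v e
  let κ' : Fin (n + 1) ⊕ τ → MvPolynomial τ A := Sum.elim
    (fun i => - ∑ j : τ, MvPolynomial.C ((M.adjugate.mulVec (v j.1)) i) * MvPolynomial.X j)
    (fun j => MvPolynomial.C M.det * MvPolynomial.X j)
  let κ : ι → MvPolynomial τ A := fun α => κ' (σ.symm α)
  have hcard : n + Fintype.card τ < Fintype.card ι := by
    rw [← Fintype.card_congr σ, Fintype.card_sum, Fintype.card_fin]
    omega
  obtain ⟨f, hf0, hf⟩ := TrdegG.exists_ne_zero_aeval_eq_zero k A n ι τ hcard κ
  refine ⟨f, hf0, fun φ c hδ' hc => ?_⟩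
  have hδ : φ M.det ≠ 0 := hδ'
  let ev : MvPolynomial τ A →+* k :=
    MvPolynomial.eval₂Hom (φ : A →+* k) (fun j : τ => c j.1 / φ M.det)
  have hev : ∀ α, ev (κ α) = c α := by
    intro α
    obtain ⟨s, rfl⟩ := σ.surjective α
    have h1 : κ (σ s) = κ' s := by simp [κ]
    rw [h1]
    cases s with
    | inr j =>
      rw [hσr]
      simp only [κ', Sum.elim_inr, ev, map_mul, MvPolynomial.eval₂Hom_C, MvPolynomial.eval₂Hom_X',
        RingHom.coe_coe]
      exact mul_div_cancel₀ _ hδ
    | inl i =>
      rw [hσl]
      simp only [κ', Sum.elim_inl, ev, map_neg, map_sum, map_mul, MvPolynomial.eval₂Hom_C,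
        MvPolynomial.eval₂Hom_X', RingHom.coe_coe]
      let Mφ : Matrix (Fin (n + 1)) (Fin (n + 1)) k := M.map φ
      have hadj : Mφ.adjugate = M.adjugate.map φ := by
        have := (RingHom.map_adjugate (φ : A →+* k) M)
        exact this.symm
      have hdet : Mφ.det = φ M.det := by
        have := (RingHom.map_det (φ : A →+* k) M)
        exact this.symm
      have h2 : Mφ.mulVec (fun i => c (e i)) = fun i' => - ∑ j : τ, c j.1 * φ (v j.1 i') := by
        ext i'
        rw [eq_neg_iff_add_eq_zero]
        have := hc i'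
        rw [← Equiv.sum_comp σ, Fintype.sum_sum_type] at this
        simp only [hσl, hσr] at this
        rw [← this]
        congr 1
        simp only [Matrix.mulVec, dotProduct, Mφ, Matrix.map_apply, M, Minor.minorMat, Matrix.of_apply]
        exact Finset.sum_congr rfl fun _ _ => mul_comm _ _
      have h3 := congrArg (Mφ.adjugate.mulVec) h2
      rw [Matrix.mulVec_mulVec, Matrix.adjugate_mul, Matrix.smul_mulVec, Matrix.one_mulVec] at h3
      have h4 := congrFun h3 i
      simp only [Pi.smul_apply, smul_eq_mul, hdet] at h4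
      rw [← mul_right_inj' hδ, h4]
      simp only [Matrix.mulVec, dotProduct, hadj, Matrix.map_apply, map_sum, map_mul]
      rw [mul_neg, Finset.mul_sum]
      simp only [mul_neg, Finset.sum_neg_distrib, neg_inj, Finset.mul_sum, Finset.sum_mul]
      rw [Finset.sum_comm]
      refine Finset.sum_congr rfl fun j _ => Finset.sum_congr rfl fun i' _ => ?_
      field_simp
  have h5 : (ev.comp (MvPolynomial.aeval κ : MvPolynomial ι k →ₐ[k] MvPolynomial τ A).toRingHom) =
      MvPolynomial.eval c := by
    ext x
    · simp [ev]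
    · simp [hev]
  rw [← h5]
  simp [hf]


/-- The jet of the member with coefficients `c` of a linear system vanishes nowhere on a
neighbourhood of `p`, for general `c`. -/
theorem nhd_stdSmooth (k A : Type u) [Field k] [IsAlgClosed k] [CommRing A]
    [Algebra k A] (n : ℕ) [Algebra.IsStandardSmoothOfRelativeDimension n k A] {ι : Type}
    [Fintype ι] (w : ι → A)
    (hw : Submodule.span A (Set.range fun α => (w α, D k A (w α))) = ⊤) (p : Ideal A)
    [p.IsPrime] :
    ∃ (δ : A) (f : MvPolynomial ι k), δ ∉ p ∧ f ≠ 0 ∧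
      ∀ c : ι → k, MvPolynomial.eval c f ≠ 0 →
        ∃ (x : Fin n → Localization.Away δ)
          (b : Module.Basis (Fin n) (Localization.Away δ) Ω[Localization.Away δ⁄k]),
          (∀ i, b i = D k (Localization.Away δ) (x i)) ∧
          Ideal.span {algebraMap A (Localization.Away δ) (∑ α, c α • w α)} ⊔
            Ideal.span (Set.range fun j => b.repr (D k (Localization.Away δ)
              (algebraMap A (Localization.Away δ) (∑ α, c α • w α))) j) = ⊤ := by
  have hss : Algebra.IsStandardSmooth k A :=
    Algebra.IsStandardSmoothOfRelativeDimension.isStandardSmooth n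
  obtain ⟨x, b, hb⟩ := ChartLocal.exists_basis_D k A n
  let E : (A × Ω[A⁄k]) ≃ₗ[A] (Fin (n + 1) → A) :=
    ((LinearEquiv.refl A A).prodCongr b.equivFun).trans (Fin.consLinearEquiv A (fun _ => A))
  let v : ι → Fin (n + 1) → A := fun α => E (w α, D k A (w α))
  have hv0 : ∀ α, v α 0 = w α := fun α => rfl
  have hvs : ∀ α (i : Fin n), v α i.succ = b.repr (D k A (w α)) i := fun α i => rfl
  have hv : Submodule.span A (Set.range v) = ⊤ := by
    have h1 : Set.range v = E '' (Set.range fun α => (w α, D k A (w α))) := by
      rw [← Set.range_comp]; rfl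
    rw [h1]
    have h2 := Submodule.span_image (E : (A × Ω[A⁄k]) →ₗ[A] (Fin (n + 1) → A))
      (s := Set.range fun α => (w α, D k A (w α)))
    rw [hw, Submodule.map_top, LinearEquiv.range] at h2
    exact h2
  obtain ⟨e, he, hδ⟩ := Minor.exists_minor p v hv
  obtain ⟨f, hf0, hf⟩ := exists_poly k A n v e he
  refine ⟨(Minor.minorMat v e).det, f, hδ, hf0, fun c hc => ?_⟩
  set δ := (Minor.minorMat v e).det with hδdef
  let C := Localization.Away δ
  let h : A := ∑ α, c α • w α
  have hAC : Algebra.Smooth A C := inferInstance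
  have hkC : Algebra.Smooth k C := Algebra.Smooth.comp k A C
  let bC := b.ofIsLocalizedModule C (Submonoid.powers δ) (map k k A C)
  have hbC : ∀ i, bC i = D k C (algebraMap A C (x i)) := fun i => by
    rw [Module.Basis.ofIsLocalizedModule_apply, hb, KaehlerDifferential.map_D]
  have hrepr : ∀ i, bC.repr (D k C (algebraMap A C h)) i = algebraMap A C (b.repr (D k A h) i) := by
    intro i
    have h1 : D k C (algebraMap A C h) = map k k A C (D k A h) := by
      rw [KaehlerDifferential.map_D]
    rw [h1, Module.Basis.ofIsLocalizedModule_repr_apply]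
  refine ⟨fun i => algebraMap A C (x i), bC, hbC, ?_⟩
  by_contra hne
  obtain ⟨M, hM, hle⟩ := Ideal.exists_le_maximal _ hne
  obtain ⟨φC, hφC⟩ := ChartLocal.exists_point k C M
  let φ : A →ₐ[k] k := φC.comp (IsScalarTower.toAlgHom k A C)
  have hφ : ∀ a, φ a = φC (algebraMap A C a) := fun a => rfl
  refine hc (hf φ c ?_ ?_)
  · rw [hφ]
    exact (IsLocalization.Away.algebraMap_isUnit (S := C) δ).map φC |>.ne_zero
  · intro i
    refine Fin.cases ?_ (fun i => ?_) i
    · have h1 : φ h = 0 := by
        rw [hφ, hφC]
        exact hle (Ideal.mem_sup_left (Ideal.mem_span_singleton_self _))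
      rw [← h1]
      simp only [h, map_sum, map_smul, smul_eq_mul, hv0]
    · have h1 : φ (b.repr (D k A h) i) = 0 := by
        rw [hφ, hφC, ← hrepr]
        exact hle (Ideal.mem_sup_right (Ideal.subset_span ⟨i, rfl⟩))
      rw [← h1]
      simp only [h, map_sum, hvs]
      rw [Finsupp.finsetSum_apply, map_sum]
      refine Finset.sum_congr rfl fun α _ => ?_
      rw [(D k A).map_smul]
      have h2 : (c α) • (D k A (w α)) = (algebraMap k A (c α)) • (D k A (w α)) := by
        rw [algebraMap_smul]
      rw [h2, map_smul, Finsupp.smul_apply, smul_eq_mul, map_mul, AlgHom.commutes]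
      rfl

/-- The property wanted of the section: smooth of dimension one less, or empty in dimension zero. -/
def Good (k : Type u) [Field k] (n : ℕ) {S : Type u} [CommRing S] (φ : k →+* S) : Prop :=
  (1 ≤ n ∧ RingHom.Locally (RingHom.IsStandardSmoothOfRelativeDimension (n - 1)) φ) ∨
    (n = 0 ∧ Subsingleton S)

theorem exists_nhd (k B : Type u) [Field k] [IsAlgClosed k] [CommRing B]
    [Algebra k B] (n : ℕ)
    (hB : RingHom.Locally (RingHom.IsStandardSmoothOfRelativeDimension n) (algebraMap k B))
    {ι : Type} [Fintype ι] (w : ι → B)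
    (hw : Submodule.span B (Set.range fun α => (w α, D k B (w α))) = ⊤) (p : Ideal B)
    [hp : p.IsPrime] :
    ∃ (g : B) (f : MvPolynomial ι k), g ∉ p ∧ f ≠ 0 ∧
      ∀ c : ι → k, MvPolynomial.eval c f ≠ 0 →
        ∃ (T : Type u) (_ : CommRing T) (_ : Algebra B T) (_ : IsLocalization.Away g T),
        Good k n
          ((algebraMap B (T ⧸ (Ideal.span {∑ α, c α • w α}).map (algebraMap B T))).comp
            (algebraMap k B)) := by
  obtain ⟨s, hs, hst⟩ := hB
  obtain ⟨t, hts, htp⟩ : ∃ t ∈ s, t ∉ p := by
    by_contra hcon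
    push Not at hcon
    apply hp.ne_top
    rw [eq_top_iff, ← hs, Ideal.span_le]
    exact hcon
  let A := Localization.Away t
  have hA : Algebra.IsStandardSmoothOfRelativeDimension n k A := by
    rw [← RingHom.isStandardSmoothOfRelativeDimension_algebraMap,
      IsScalarTower.algebraMap_eq k B A]
    exact hst t hts
  have hpA : (p.map (algebraMap B A)).IsPrime := by
    apply IsLocalization.isPrime_of_isPrime_disjoint (.powers t) _ _ hp
    rwa [Ideal.disjoint_powers_iff_notMem_of_isPrime]
  have hwA := ChartGeneric.span_localization k B A (Submonoid.powers t) w hw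
  obtain ⟨δ, f, hδ, hf0, hf⟩ := nhd_stdSmooth k A n (fun α => algebraMap B A (w α)) hwA
    (p.map (algebraMap B A))
  have hloc : IsLocalization.Away (t * (IsLocalization.Away.sec t δ).1) (Localization.Away δ) :=
    .mul_of_associated _ _ δ <| IsLocalization.Away.associated_sec_fst t δ
  refine ⟨t * (IsLocalization.Away.sec t δ).1, f, ?_, hf0, fun c hc => ?_⟩
  · refine Ideal.IsPrime.mul_notMem ‹_› htp fun hmem ↦ hδ ?_
    rw [Ideal.mem_iff_of_associated (IsLocalization.Away.associated_sec_fst t δ).symm]
    exact Ideal.mem_map_of_mem (algebraMap B A) hmem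
  · refine ⟨Localization.Away δ, inferInstance, inferInstance, hloc, ?_⟩
    obtain ⟨x, b, hb, h1⟩ := hf c hc
    have h2 : Ideal.span {algebraMap A (Localization.Away δ)
        (∑ α, c α • (algebraMap B A (w α)))} =
        (Ideal.span {∑ α, c α • w α}).map (algebraMap B (Localization.Away δ)) := by
      rw [Ideal.map_span, Set.image_singleton,
        IsScalarTower.algebraMap_apply B A (Localization.Away δ)]
      congr 3
      simp [Algebra.smul_def, ← IsScalarTower.algebraMap_apply]
    rcases n with _ | m
    · right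
      refine ⟨rfl, ?_⟩
      have h3 : (Set.range fun j : Fin 0 => b.repr (D k (Localization.Away δ)
          (algebraMap A (Localization.Away δ) (∑ α, c α • algebraMap B A (w α)))) j) = ∅ :=
        Set.range_eq_empty _
      rw [h3, Ideal.span_empty, sup_bot_eq, h2] at h1
      exact Ideal.Quotient.subsingleton_iff.mpr h1
    · left
      refine ⟨by omega, ?_⟩
      have hAC : Algebra.Smooth A (Localization.Away δ) := inferInstance
      have hss : Algebra.IsStandardSmooth k A :=
        Algebra.IsStandardSmoothOfRelativeDimension.isStandardSmooth (m + 1)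
      have hkC : Algebra.Smooth k (Localization.Away δ) :=
        Algebra.Smooth.comp k A (Localization.Away δ)
      have h3 := SmoothQuot.locally_isStandardSmooth_quotient k (Localization.Away δ) x b hb _ h1
      rw [h2] at h3
      rw [Nat.add_sub_cancel]
      convert h3 using 1
      ext r
      rfl

/-- On a smooth affine chart `Spec B` of dimension `n` over an algebraically closed field, with a linear
system `w` separating first order jets, the general member is smooth of dimension `n - 1` (empty if
`n = 0`). -/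
theorem chart_generic (k B : Type u) [Field k] [IsAlgClosed k] [CommRing B]
    [Algebra k B] (n : ℕ)
    (hB : RingHom.Locally (RingHom.IsStandardSmoothOfRelativeDimension n) (algebraMap k B))
    {ι : Type} [Fintype ι] (w : ι → B)
    (hw : Submodule.span B (Set.range fun α => (w α, D k B (w α))) = ⊤) :
    ∃ f : MvPolynomial ι k, f ≠ 0 ∧ ∀ c : ι → k, MvPolynomial.eval c f ≠ 0 →
      Good k n (algebraMap k (B ⧸ Ideal.span {∑ α, c α • w α})) := by
  classical
  have key := fun p : PrimeSpectrum B => exists_nhd k B n hB w hw p.asIdeal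
  choose g f hg hf0 hf using key
  have hspan : Ideal.span (Set.range g) = ⊤ := by
    by_contra hne
    obtain ⟨M, hM, hle⟩ := Ideal.exists_le_maximal _ hne
    exact hg ⟨M, hM.isPrime⟩ (hle (Ideal.subset_span ⟨_, rfl⟩))
  obtain ⟨s, hs, hs'⟩ := (Ideal.span_eq_top_iff_finite _).mp hspan
  choose q hq using fun (t : s) => (hs t.2 : t.1 ∈ Set.range g)
  refine ⟨∏ t ∈ s.attach, f (q t), Finset.prod_ne_zero_iff.mpr fun t _ => hf0 _, fun c hc => ?_⟩
  rw [map_prod, Finset.prod_ne_zero_iff] at hc
  let I : Ideal B := Ideal.span {∑ α, c α • w α}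
  rcases n with _ | m
  · right
    refine ⟨rfl, ?_⟩
    rw [Ideal.Quotient.subsingleton_iff]
    by_contra hne
    obtain ⟨M, hM, hle⟩ := Ideal.exists_le_maximal I hne
    obtain ⟨t, ht, htM⟩ : ∃ t ∈ s, t ∉ M := by
      by_contra hcon
      push Not at hcon
      apply hM.ne_top
      rw [eq_top_iff, ← hs', Ideal.span_le]
      exact hcon
    obtain ⟨T, _, _, hT, hsm⟩ := hf (q ⟨t, ht⟩) c (hc ⟨t, ht⟩ (Finset.mem_attach _ _))
    rw [hq ⟨t, ht⟩] at hT
    rcases hsm with ⟨h, -⟩ | ⟨-, h⟩
    · omega
    · rw [Ideal.Quotient.subsingleton_iff] at h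
      have hMT : (M.map (algebraMap B T)).IsPrime := by
        apply IsLocalization.isPrime_of_isPrime_disjoint (.powers t) _ _ hM.isPrime
        have := hM.isPrime
        rwa [Ideal.disjoint_powers_iff_notMem_of_isPrime]
      apply hMT.ne_top
      rw [eq_top_iff, ← h]
      exact Ideal.map_mono hle
  · left
    refine ⟨by omega, ?_⟩
    have hRI := RingHom.isStandardSmoothOfRelativeDimension_respectsIso (n := m)
    refine RingHom.OfLocalizationSpanTarget.ofIsLocalization
      (RingHom.locally_ofLocalizationSpanTarget hRI) (RingHom.locally_respectsIso hRI)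
      (algebraMap k (B ⧸ I)) (Ideal.Quotient.mk I '' (s : Set B)) ?_ ?_
    · rw [← Ideal.map_span, hs', Ideal.map_top]
    · rintro ⟨_, t, ht, rfl⟩
      obtain ⟨T, _, _, hT, hsm⟩ := hf (q ⟨t, ht⟩) c (hc ⟨t, ht⟩ (Finset.mem_attach _ _))
      rw [hq ⟨t, ht⟩] at hT
      have := ChartGeneric.isLocalizationAway_quotient t (T := T) I
      refine ⟨T ⧸ I.map (algebraMap B T), inferInstance, inferInstance, this, ?_⟩
      rcases hsm with ⟨-, hsm⟩ | ⟨h, -⟩
      · rw [Nat.add_sub_cancel] at hsm
        convert hsm using 1
        ext r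
        rfl
      · omega

end Groth.Agent.Lefpen.H708.BertiniAlg
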