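import Groth.Agent.Lefpen.H708.EtaleCoord
import Mathlib.RingTheory.RingHom.LocallyStandardSmooth
import Mathlib.RingTheory.Etale.Kaehler
import Mathlib.RingTheory.Localization.Module
import Mathlib.RingTheory.OrzechProperty
import Mathlib.RingTheory.Localization.Ideal

/-!
# Hypersurfaces in smooth algebras which are smooth
-/

set_option autoImplicit false

namespace Groth.Agent.Lefpen.H708.SmoothQuot

open TensorProduct KaehlerDifferential

universe u v w

/-- Exchange: if the `j`-th coordinate of `v` in the basis `b` is a unit, then `v` together with the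
other `b i` is a basis. -/
theorem exists_basis_exchange {A : Type u} {M : Type v} [CommRing A] [AddCommGroup M] [Module A M]
    {m : ℕ} (b : Module.Basis (Fin (m + 1)) A M) (j : Fin (m + 1)) (v : M)
    (hv : IsUnit (b.repr v j)) :
    ∃ b' : Module.Basis (Option (Fin m)) A M, b' none = v ∧ ∀ i, b' (some i) = b (j.succAbove i) := by
  let c : Module.Basis (Option (Fin m)) A M := b.reindex (finSuccEquiv' j)
  have hc0 : c none = b j := by simp [c]
  have hcs : ∀ i, c (some i) = b (j.succAbove i) := by intro i; simp [c]
  let f : M →ₗ[A] M := c.constr A (fun o => o.elim v (fun i => c (some i)))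
  have hf0 : f (c none) = v := by simp [f]
  have hfs : ∀ i, f (c (some i)) = c (some i) := by intro i; simp [f]
  have hsurj : Function.Surjective f := by
    rw [← LinearMap.range_eq_top, ← top_le_iff, ← c.span_eq, Submodule.span_le]
    have h1 : ∀ i, c (some i) ∈ LinearMap.range f := fun i => ⟨_, hfs i⟩
    rintro _ ⟨o, rfl⟩
    cases o with
    | some i => exact h1 i
    | none =>
      have h2 : v = ∑ o, c.repr v o • c o := (c.sum_repr v).symm
      rw [Fintype.sum_option] at h2
      have h3 : c.repr v none • c none ∈ LinearMap.range f := by
        have : c.repr v none • c none = v - ∑ i, c.repr v (some i) • c (some i) := by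
          rw [eq_sub_iff_add_eq]; exact h2.symm
        rw [this]
        exact Submodule.sub_mem _ ⟨_, hf0⟩
          (Submodule.sum_mem _ fun i _ => Submodule.smul_mem _ _ (h1 i))
      have h4 : c.repr v none = b.repr v j := by simp [c]
      rw [h4] at h3
      obtain ⟨u, hu⟩ := hv
      have h5 := Submodule.smul_mem _ (↑u⁻¹ : A) h3
      rwa [← hu, smul_smul, Units.inv_mul, one_smul] at h5
  have : Module.Finite A M := Module.Finite.of_basis c
  have hbij : Function.Bijective f :=
    ⟨OrzechProperty.injective_of_surjective_endomorphism f hsurj, hsurj⟩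
  refine ⟨c.map (LinearEquiv.ofBijective f hbij), ?_, ?_⟩
  · simp [hf0]
  · intro i
    rw [← hcs i]
    simp [hfs]

/-- Hypersurface `h = 0` in a smooth algebra with étale coordinates `x i`, on the locus where the
`j`-th partial derivative of `h` is invertible. -/
theorem isStandardSmooth_quotient_of_isUnit (R : Type u) (A : Type u) [CommRing R] [CommRing A]
    [Algebra R A] [Algebra.Smooth R A] {m : ℕ} (x : Fin (m + 1) → A)
    (b : Module.Basis (Fin (m + 1)) A Ω[A⁄R]) (hb : ∀ i, b i = D R A (x i)) (h : A)
    (j : Fin (m + 1)) (hj : IsUnit (b.repr (D R A h) j)) :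
    Algebra.IsStandardSmoothOfRelativeDimension m R (A ⧸ Ideal.span {h}) := by
  obtain ⟨b', h0, hs⟩ := exists_basis_exchange b j _ hj
  exact EtaleCoord.isStandardSmooth_quotient R A m h (fun i => x (j.succAbove i)) b' h0
    (fun i => by rw [hs, hb])

/-- Hypersurface `h = 0` in a smooth algebra with étale coordinates `x i`: it is smooth of relative
dimension one less if `h` and its partial derivatives generate the unit ideal. -/
theorem locally_isStandardSmooth_quotient (R : Type u) (A : Type u) [CommRing R] [CommRing A]
    [Algebra R A] [Algebra.Smooth R A] {m : ℕ} (x : Fin (m + 1) → A)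
    (b : Module.Basis (Fin (m + 1)) A Ω[A⁄R]) (hb : ∀ i, b i = D R A (x i)) (h : A)
    (hspan : Ideal.span {h} ⊔ Ideal.span (Set.range fun j => b.repr (D R A h) j) = ⊤) :
    RingHom.Locally (RingHom.IsStandardSmoothOfRelativeDimension m)
      (algebraMap R (A ⧸ Ideal.span {h})) := by
  let t : Fin (m + 1) → A := fun j => b.repr (D R A h) j
  let I : Ideal A := Ideal.span {h}
  let S : Fin (m + 1) → Type u := fun j =>
    (Localization.Away (t j)) ⧸ I.map (algebraMap A (Localization.Away (t j)))
  let aS : ∀ j, Algebra (A ⧸ I) (S j) := fun j =>
    inferInstanceAs (Algebra (A ⧸ I)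
      ((Localization.Away (t j)) ⧸ I.map (algebraMap A (Localization.Away (t j)))))
  have hS : ∀ j, IsLocalization.Away (Ideal.Quotient.mk I (t j)) (S j) := by
    intro j
    have h1 : IsLocalization (Algebra.algebraMapSubmonoid (A ⧸ I) (Submonoid.powers (t j)))
      ((Localization.Away (t j)) ⧸ I.map (algebraMap A (Localization.Away (t j)))) := inferInstance
    have h2 : Algebra.algebraMapSubmonoid (A ⧸ I) (Submonoid.powers (t j)) =
        Submonoid.powers (Ideal.Quotient.mk I (t j)) := by
      rw [Algebra.algebraMapSubmonoid, Submonoid.map_powers]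
      rfl
    rw [h2] at h1
    exact h1
  refine RingHom.locally_of_exists
    RingHom.isStandardSmoothOfRelativeDimension_respectsIso _
    (fun j => Ideal.Quotient.mk I (t j)) ?_ S ?_
  · have h1 := congrArg (Ideal.map (Ideal.Quotient.mk I)) hspan
    rw [Ideal.map_sup, Ideal.map_span, Ideal.map_span, Ideal.map_top] at h1
    rw [← Set.range_comp] at h1
    rw [← h1]
    rw [Set.image_singleton]
    have h2 : Ideal.Quotient.mk I h = 0 :=
      Ideal.Quotient.eq_zero_iff_mem.mpr (Ideal.mem_span_singleton_self h)
    rw [h2]
    simp
    rfl
  · intro j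
    let At := Localization.Away (t j)
    have : Algebra.IsStandardSmoothOfRelativeDimension m R (S j) := by
      have hI : I.map (algebraMap A At) = Ideal.span {algebraMap A At h} := by
        rw [Ideal.map_span, Set.image_singleton]
      have : Algebra.Smooth A At := inferInstance
      have : Algebra.Smooth R At := Algebra.Smooth.comp R A At
      let bt := b.ofIsLocalizedModule At (Submonoid.powers (t j)) (map R R A At)
      have := isStandardSmooth_quotient_of_isUnit R At (fun i => algebraMap A At (x i)) bt
        (fun i => by
          rw [Module.Basis.ofIsLocalizedModule_apply, hb, KaehlerDifferential.map_D])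
        (algebraMap A At h) j (by
          have h1 : D R At (algebraMap A At h) = map R R A At (D R A h) := by
            rw [KaehlerDifferential.map_D]
          rw [h1, Module.Basis.ofIsLocalizedModule_repr_apply]
          exact IsLocalization.Away.algebraMap_isUnit (t j))
      rw [← hI] at this
      exact this
    rw [← RingHom.isStandardSmoothOfRelativeDimension_algebraMap] at this
    convert this using 1
    ext r
    rfl

end Groth.Agent.Lefpen.H708.SmoothQuot
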