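import Groth.Agent.Lefpen.H708.Minor
import Groth.Agent.Lefpen.H708.SmoothQuot
import Mathlib.FieldTheory.IsAlgClosed.Basic
import Mathlib.RingTheory.Jacobson.Ring
import Mathlib.LinearAlgebra.Pi

/-!
# Generic smoothness of the members of a linear system, locally on a standard smooth chart
-/

set_option autoImplicit false

namespace Groth.Agent.Lefpen.H708.ChartLocal

open TensorProduct KaehlerDifferential

universe u v w

/-- Étale coordinates: a basis of differentials of elements. -/
theorem exists_basis_D (k A : Type u) [CommRing k] [CommRing A] [Algebra k A] (n : ℕ)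
    [Algebra.IsStandardSmoothOfRelativeDimension n k A] :
    ∃ (x : Fin n → A) (b : Module.Basis (Fin n) A Ω[A⁄k]), ∀ i, b i = D k A (x i) := by
  obtain ⟨g, hg⟩ := Algebra.IsStandardSmoothOfRelativeDimension.exists_etale_mvPolynomial n k A
  let P := MvPolynomial (Fin n) k
  let aPA : Algebra P A := g.toRingHom.toAlgebra
  have hPA : Algebra.Etale P A := hg
  have : IsScalarTower k P A := .of_algebraMap_eq' g.comp_algebraMap.symm
  let b := ((mvPolynomialBasis k (Fin n)).baseChange A).map (tensorKaehlerEquivOfFormallyEtale k P A)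
  refine ⟨fun i => g (MvPolynomial.X i), b, fun i => ?_⟩
  simp only [b, Module.Basis.map_apply, Module.Basis.baseChange_apply, mvPolynomialBasis_apply]
  rw [tensorKaehlerEquivOfFormallyEtale_apply, mapBaseChange_tmul, one_smul, map_D]
  rfl

/-- Nullstellensatz: a maximal ideal of a finitely generated algebra over an algebraically closed
field is the kernel of a point. -/
theorem exists_point (k C : Type u) [Field k] [IsAlgClosed k] [CommRing C] [Algebra k C]
    [Algebra.FiniteType k C] (M : Ideal C) [hM : M.IsMaximal] :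
    ∃ φ : C →ₐ[k] k, ∀ c, φ c = 0 ↔ c ∈ M := by
  let F := C ⧸ M
  let _ : Field F := Ideal.Quotient.field M
  have h1 : Algebra.FiniteType k F := inferInstance
  have h2 : Module.Finite k F := finite_of_finite_type_of_isJacobsonRing k F
  have h3 : Function.Bijective (algebraMap k F) :=
    IsAlgClosed.algebraMap_bijective_of_isIntegral
  let e : k ≃ₐ[k] F := AlgEquiv.ofBijective (Algebra.ofId k F) h3
  refine ⟨(e.symm : F →ₐ[k] k).comp (Ideal.Quotient.mkₐ k M), fun c => ?_⟩
  change e.symm (Ideal.Quotient.mk M c) = 0 ↔ c ∈ M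
  rw [map_eq_zero_iff _ e.symm.injective]
  exact Ideal.Quotient.eq_zero_iff_mem

theorem nhd_stdSmooth (k A : Type u) [Field k] [IsAlgClosed k] [CommRing A] [IsDomain A]
    [Algebra k A] (m : ℕ) [Algebra.IsStandardSmoothOfRelativeDimension (m + 1) k A] {ι : Type}
    [Fintype ι] (w : ι → A)
    (hw : Submodule.span A (Set.range fun α => (w α, D k A (w α))) = ⊤) (p : Ideal A)
    [p.IsPrime] :
    ∃ (δ : A) (f : MvPolynomial ι k), δ ∉ p ∧ f ≠ 0 ∧
      ∀ c : ι → k, MvPolynomial.eval c f ≠ 0 →
        RingHom.Locally (RingHom.IsStandardSmoothOfRelativeDimension m)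
          (algebraMap k (Localization.Away δ ⧸
            Ideal.span {algebraMap A (Localization.Away δ) (∑ α, c α • w α)})) := by
  have hss : Algebra.IsStandardSmooth k A :=
    Algebra.IsStandardSmoothOfRelativeDimension.isStandardSmooth (m + 1)
  obtain ⟨x, b, hb⟩ := exists_basis_D k A (m + 1)
  let E : (A × Ω[A⁄k]) ≃ₗ[A] (Fin (m + 2) → A) :=
    ((LinearEquiv.refl A A).prodCongr b.equivFun).trans (Fin.consLinearEquiv A (fun _ => A))
  let v : ι → Fin (m + 2) → A := fun α => E (w α, D k A (w α))
  have hv0 : ∀ α, v α 0 = w α := fun α => rfl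
  have hvs : ∀ α (i : Fin (m + 1)), v α i.succ = b.repr (D k A (w α)) i := fun α i => rfl
  have hv : Submodule.span A (Set.range v) = ⊤ := by
    have h1 : Set.range v = E '' (Set.range fun α => (w α, D k A (w α))) := by
      rw [← Set.range_comp]; rfl
    rw [h1]
    have h2 := Submodule.span_image (E : (A × Ω[A⁄k]) →ₗ[A] (Fin (m + 2) → A))
      (s := Set.range fun α => (w α, D k A (w α)))
    rw [hw, Submodule.map_top, LinearEquiv.range] at h2
    exact h2
  obtain ⟨e, he, hδ⟩ := Minor.exists_minor p v hv
  obtain ⟨f, hf0, hf⟩ := Minor.exists_poly k A (m + 1) v e he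
  refine ⟨(Minor.minorMat v e).det, f, hδ, hf0, fun c hc => ?_⟩
  set δ := (Minor.minorMat v e).det with hδdef
  let C := Localization.Away δ
  let h : A := ∑ α, c α • w α
  have hAC : Algebra.Smooth A C := inferInstance
  have hkC : Algebra.Smooth k C := Algebra.Smooth.comp k A C
  let bC := b.ofIsLocalizedModule C (Submonoid.powers δ) (map k k A C)
  have hbC : ∀ i, bC i = D k C (algebraMap A C (x i)) := fun i => by
    rw [Module.Basis.ofIsLocalizedModule_apply, hb, KaehlerDifferential.map_D]
  have hrepr : ∀ i, bC.repr (D k C (algebraMap A C h)) i = algebraMap A C (b.repr (D k A h) i) := by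
    intro i
    have h1 : D k C (algebraMap A C h) = map k k A C (D k A h) := by
      rw [KaehlerDifferential.map_D]
    rw [h1, Module.Basis.ofIsLocalizedModule_repr_apply]
  refine SmoothQuot.locally_isStandardSmooth_quotient k C
    (fun i => algebraMap A C (x i)) bC hbC (algebraMap A C h) ?_
  by_contra hne
  obtain ⟨M, hM, hle⟩ := Ideal.exists_le_maximal _ hne
  obtain ⟨φC, hφC⟩ := exists_point k C M
  let φ : A →ₐ[k] k := φC.comp (IsScalarTower.toAlgHom k A C)
  have hφ : ∀ a, φ a = φC (algebraMap A C a) := fun a => rfl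
  refine hc (hf φ c ?_ ?_)
  · rw [hφ]
    exact (IsLocalization.Away.algebraMap_isUnit (S := C) δ).map φC |>.ne_zero
  · intro i
    refine Fin.cases ?_ (fun i => ?_) i
    · have h1 : φ h = 0 := by
        rw [hφ, hφC]
        exact hle (Ideal.mem_sup_left (Ideal.mem_span_singleton_self _))
      rw [← h1]
      simp only [h, map_sum, map_smul, smul_eq_mul, hv0]
    · have h1 : φ (b.repr (D k A h) i) = 0 := by
        rw [hφ, hφC, ← hrepr]
        exact hle (Ideal.mem_sup_right (Ideal.subset_span ⟨i, rfl⟩))
      rw [← h1]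
      simp only [h, map_sum, hvs]
      rw [Finsupp.finsetSum_apply, map_sum]
      refine Finset.sum_congr rfl fun α _ => ?_
      rw [(D k A).map_smul]
      have h2 : (c α) • (D k A (w α)) = (algebraMap k A (c α)) • (D k A (w α)) := by
        rw [algebraMap_smul]
      rw [h2, map_smul, Finsupp.smul_apply, smul_eq_mul, map_mul, AlgHom.commutes]
      rfl

end Groth.Agent.Lefpen.H708.ChartLocal
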