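import Groth.Agent.FlatA.EtaleSlice
import Groth.Agent.FlatB.AffSpaceSmooth
import Mathlib.RingTheory.Kaehler.Polynomial
import Mathlib.RingTheory.RingHom.StandardSmooth
import Mathlib.RingTheory.Polynomial.Quotient
import Mathlib.RingTheory.TensorProduct.Quotient
import Mathlib.Algebra.MvPolynomial.Equiv

/-!
# Étale coordinates and hypersurfaces in smooth algebras
-/

set_option autoImplicit false

namespace Groth.Agent.Lefpen.H708.EtaleCoord

open TensorProduct KaehlerDifferential Polynomial

universe u v w

/-- If the differentials of `y i` form a basis of `Ω[A/R]`, `A` smooth over `R`, then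
`R[Y_i] → A` is étale. -/
theorem etale_of_basis (R : Type u) (A : Type v) [CommRing R] [CommRing A] [Algebra R A]
    [Algebra.Smooth R A] {σ : Type w} [Finite σ] (y : σ → A) (b : Module.Basis σ A Ω[A⁄R])
    (hb : ∀ i, b i = D R A (y i)) :
    ((MvPolynomial.aeval y : MvPolynomial σ R →ₐ[R] A) : MvPolynomial σ R →+* A).Etale := by
  let P := MvPolynomial σ R
  let φ : P →ₐ[R] A := MvPolynomial.aeval y
  change (φ : P →+* A).Etale
  algebraize [φ.toRingHom]
  have hφ : ∀ i, algebraMap P A (MvPolynomial.X i) = y i := fun i ↦ MvPolynomial.aeval_X _ i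
  have : IsScalarTower R P A := .of_algebraMap_eq' φ.comp_algebraMap.symm
  have hbij : Function.Bijective (mapBaseChange R P A) := by
    let bb := (mvPolynomialBasis R σ).baseChange A
    have hcomp : (mapBaseChange R P A) ∘ₗ bb.repr.symm.toLinearMap = b.repr.symm.toLinearMap := by
      ext i
      simp [bb, hφ, hb, -MvPolynomial.algebraMap_eq, P]
    have : Function.Bijective ((mapBaseChange R P A) ∘ₗ
        bb.repr.symm.toLinearMap) := hcomp ▸ b.repr.symm.bijective
    rw [LinearMap.coe_comp] at this
    exact (Function.Bijective.of_comp_iff _ bb.repr.symm.bijective).mp this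
  have : Algebra.FormallyEtale P A :=
    Groth.Agent.FlatA.EtaleSlice.formallyEtale_of_mapBaseChange_bijective R P A hbij
  have : Algebra.FinitePresentation P A :=
    .of_restrict_scalars_finitePresentation R P _
  have : Algebra.Etale P A := {}
  exact this

theorem etale_algebraMap_quotient (P : Type u) (A : Type u) [CommRing P] [CommRing A] [Algebra P A]
    [Algebra.Etale P A] (I : Ideal P) :
    (algebraMap (P ⧸ I) (A ⧸ I.map (algebraMap P A))).Etale := by
  have h1 : Algebra.Etale (P ⧸ I) ((P ⧸ I) ⊗[P] A) := inferInstance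
  have e₂ := (Algebra.TensorProduct.quotIdealMapEquivQuotTensor A I).symm
  have : Algebra.Etale (P ⧸ I) (A ⧸ I.map (algebraMap P A)) :=
    Algebra.Etale.of_equiv (A := (P ⧸ I) ⊗[P] A) e₂
  rwa [RingHom.etale_algebraMap]

/-- The quotient of an étale map by an ideal of the source is étale. -/
theorem etale_quotientMap {P : Type u} {A : Type u} [CommRing P] [CommRing A] (f : P →+* A)
    (hf : f.Etale) (I : Ideal P) (J : Ideal A) (hJ : J = I.map f) :
    (Ideal.quotientMap (I := I) J f (by rw [hJ]; exact Ideal.le_comap_map)).Etale := by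
  subst hJ
  let := f.toAlgebra
  have : Algebra.Etale P A := hf
  exact etale_algebraMap_quotient P A I

/-- `A` smooth over `R` with étale coordinates `y0, y 0, ..., y (m-1)`: the hypersurface `y0 = 0` is
standard smooth of relative dimension `m`. -/
theorem isStandardSmooth_quotient (R : Type u) (A : Type u) [CommRing R] [CommRing A] [Algebra R A]
    [Algebra.Smooth R A] (m : ℕ) (y0 : A) (y : Fin m → A)
    (b : Module.Basis (Option (Fin m)) A Ω[A⁄R])
    (h0 : b none = D R A y0) (hs : ∀ i, b (some i) = D R A (y i)) :
    Algebra.IsStandardSmoothOfRelativeDimension m R (A ⧸ Ideal.span {y0}) := by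
  let Q := MvPolynomial (Fin m) R
  let χ : Q[X] →+* A :=
    Polynomial.eval₂RingHom ((MvPolynomial.aeval y : Q →ₐ[R] A) : Q →+* A) y0
  let z : Option (Fin m) → A := fun i => i.elim y0 y
  have hχ : χ.Etale := by
    have h1 : ((MvPolynomial.aeval z :
        MvPolynomial (Option (Fin m)) R →ₐ[R] A) : MvPolynomial (Option (Fin m)) R →+* A).Etale :=
      etale_of_basis R A z b (fun i => by cases i <;> simp [h0, hs, z])
    have h2 : χ = ((MvPolynomial.aeval z :
        MvPolynomial (Option (Fin m)) R →ₐ[R] A) : MvPolynomial (Option (Fin m)) R →+* A).comp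
          ((MvPolynomial.optionEquivLeft R (Fin m)).symm.toRingEquiv :
            Q[X] →+* MvPolynomial (Option (Fin m)) R) := by
      ext x
      · simp [χ, Q]
      · simp [χ, z, Q]
      · simp [χ, z, Q]
    rw [h2]
    exact RingHom.Etale.stableUnderComposition _ _
      (RingHom.Etale.of_bijective (MvPolynomial.optionEquivLeft R (Fin m)).symm.bijective) h1
  have hJ : Ideal.span {y0} = (Ideal.span {(X : Q[X])}).map χ := by
    rw [Ideal.map_span, Set.image_singleton]; simp [χ]
  have hq := etale_quotientMap χ hχ (Ideal.span {(X : Q[X])}) (Ideal.span {y0}) hJ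
  have hCbij : Function.Bijective
      ((Ideal.Quotient.mk (Ideal.span {(X : Q[X])})).comp (Polynomial.C : Q →+* Q[X])) := by
    constructor
    · rw [injective_iff_map_eq_zero]
      intro q hq
      rw [RingHom.comp_apply, Ideal.Quotient.eq_zero_iff_mem, Ideal.mem_span_singleton,
        Polynomial.X_dvd_iff] at hq
      simpa using hq
    · intro q
      obtain ⟨q, rfl⟩ := Ideal.Quotient.mk_surjective q
      refine ⟨q.coeff 0, ?_⟩
      rw [RingHom.comp_apply, Ideal.Quotient.eq, Ideal.mem_span_singleton, Polynomial.X_dvd_iff]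
      simp
  have h3 :=
    RingHom.etale_iff_isStandardSmoothOfRelativeDimension_zero.mp
      (RingHom.Etale.stableUnderComposition _ _ (RingHom.Etale.of_bijective hCbij) hq)
  have h4 : (algebraMap R Q).IsStandardSmoothOfRelativeDimension m := by
    rw [RingHom.isStandardSmoothOfRelativeDimension_algebraMap]
    exact Groth.Agent.FlatB.AffSpaceSmooth.isStandardSmoothOfRelativeDimension R m
  have h5 := h3.comp h4
  rw [zero_add] at h5
  rw [← RingHom.isStandardSmoothOfRelativeDimension_algebraMap]
  convert h5 using 1
  ext r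
  simp [χ]

end Groth.Agent.Lefpen.H708.EtaleCoord
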