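import Groth.Agent.Lefpen.H708.Trdeg
import Mathlib.RingTheory.LocalRing.ResidueField.Ideal
import Mathlib.LinearAlgebra.Dimension.StrongRankCondition
import Mathlib.LinearAlgebra.Matrix.Nondegenerate
import Mathlib.LinearAlgebra.Matrix.Basis
import Mathlib.LinearAlgebra.Matrix.Adjugate

/-!
# Minors of a spanning family and the polynomial equation of the image of an incidence locus
-/

set_option autoImplicit false

namespace Groth.Agent.Lefpen.H708.Minor

open Cardinal

universe u v w

/-- The square matrix with columns `v (e j)`. -/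
def minorMat {A : Type u} {ι : Type w} {n : ℕ} (v : ι → Fin n → A) (e : Fin n → ι) :
    Matrix (Fin n) (Fin n) A :=
  Matrix.of fun i j => v (e j) i

theorem exists_minor {A : Type u} [CommRing A] (p : Ideal A) [p.IsPrime] {ι : Type w} {n : ℕ}
    (v : ι → Fin n → A) (hv : Submodule.span A (Set.range v) = ⊤) :
    ∃ e : Fin n → ι, Function.Injective e ∧ (minorMat v e).det ∉ p := by
  let K := p.ResidueField
  let ρ : A →+* K := algebraMap A K
  let v' : ι → Fin n → K := fun α i => ρ (v α i)
  have hv' : Submodule.span K (Set.range v') = ⊤ := by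
    rw [eq_top_iff, ← (Pi.basisFun K (Fin n)).span_eq, Submodule.span_le]
    rintro _ ⟨i, rfl⟩
    have h1 : (Pi.basisFun A (Fin n)) i ∈ Submodule.span A (Set.range v) := by rw [hv]; trivial
    have h2 : ∀ u ∈ Submodule.span A (Set.range v),
        (fun i => ρ (u i)) ∈ Submodule.span K (Set.range v') := by
      intro u hu
      induction hu using Submodule.span_induction with
      | mem x hx => obtain ⟨α, rfl⟩ := hx; exact Submodule.subset_span ⟨α, rfl⟩
      | zero => simp only [Pi.zero_apply, map_zero]; exact Submodule.zero_mem _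
      | add x y _ _ hx hy =>
        simp only [Pi.add_apply, map_add]; exact Submodule.add_mem _ hx hy
      | smul a x _ hx =>
        simp only [Pi.smul_apply, smul_eq_mul, map_mul]; exact Submodule.smul_mem _ (ρ a) hx
    have h3 := h2 _ h1
    have h4 : (fun i' => ρ ((Pi.basisFun A (Fin n)) i i')) = (Pi.basisFun K (Fin n)) i := by
      ext i'
      simp [Pi.single_apply, apply_ite]
    rw [h4] at h3
    exact h3
  obtain ⟨f, hf, -, hli⟩ := Submodule.exists_fun_fin_finrank_span_eq K (Set.range v')
  have hn : Module.finrank K (Submodule.span K (Set.range v')) = n := by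
    rw [hv', finrank_top]; simp
  have key : ∃ e : Fin n → ι, LinearIndependent K (fun j => v' (e j)) := by
    choose g hg using hf
    refine ⟨fun j => g (Fin.cast hn.symm j), ?_⟩
    have : (fun j => v' (g (Fin.cast hn.symm j))) = f ∘ Fin.cast hn.symm := by
      ext1 j; simp [hg]
    rw [this]
    exact hli.comp _ (Fin.cast_injective _)
  obtain ⟨e, he⟩ := key
  refine ⟨e, fun a b hab => he.injective (by simp [hab]), ?_⟩
  intro hdet
  have h1 : (minorMat v' e).det = 0 := by
    have : minorMat v' e = (minorMat v e).map ρ := by ext i j; rfl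
    rw [this, ← RingHom.mapMatrix_apply, ← RingHom.map_det]
    exact (Ideal.algebraMap_residueField_eq_zero (I := p)).mpr hdet
  have h2 : LinearIndependent K (minorMat v' e).col := he
  rw [Matrix.linearIndependent_cols_iff_isUnit, Matrix.isUnit_iff_isUnit_det, h1] at h2
  simp at h2

/-- The polynomial killing the image of the incidence locus, over the locus where a maximal minor is
invertible. -/
theorem exists_poly (k A : Type u) [Field k] [CommRing A] [IsDomain A] [Algebra k A] (n : ℕ)
    [Algebra.IsStandardSmoothOfRelativeDimension n k A] {ι : Type} [Fintype ι]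
    (v : ι → Fin (n + 1) → A) (e : Fin (n + 1) → ι) (he : Function.Injective e) :
    ∃ f : MvPolynomial ι k, f ≠ 0 ∧ ∀ (φ : A →ₐ[k] k) (c : ι → k), φ (minorMat v e).det ≠ 0 →
      (∀ i, ∑ α, c α * φ (v α i) = 0) → MvPolynomial.eval c f = 0 := by
  classical
  let τ : Type := ((Set.range e)ᶜ : Set ι)
  let σ : Fin (n + 1) ⊕ τ ≃ ι :=
    ((Equiv.ofInjective e he).sumCongr (Equiv.refl _)).trans (Equiv.Set.sumCompl (Set.range e))
  have hσl : ∀ i, σ (Sum.inl i) = e i := fun i => rfl
  have hσr : ∀ j : τ, σ (Sum.inr j) = j.1 := fun i => rfl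
  let M := minorMat v e
  let κ' : Fin (n + 1) ⊕ τ → MvPolynomial τ A := Sum.elim
    (fun i => - ∑ j : τ, MvPolynomial.C ((M.adjugate.mulVec (v j.1)) i) * MvPolynomial.X j)
    (fun j => MvPolynomial.C M.det * MvPolynomial.X j)
  let κ : ι → MvPolynomial τ A := fun α => κ' (σ.symm α)
  have hcard : n + Fintype.card τ < Fintype.card ι := by
    rw [← Fintype.card_congr σ, Fintype.card_sum, Fintype.card_fin]
    omega
  obtain ⟨f, hf0, hf⟩ := Trdeg.exists_ne_zero_aeval_eq_zero k A n ι τ hcard κ
  refine ⟨f, hf0, fun φ c hδ' hc => ?_⟩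
  have hδ : φ M.det ≠ 0 := hδ'
  let ev : MvPolynomial τ A →+* k :=
    MvPolynomial.eval₂Hom (φ : A →+* k) (fun j : τ => c j.1 / φ M.det)
  have hev : ∀ α, ev (κ α) = c α := by
    intro α
    obtain ⟨s, rfl⟩ := σ.surjective α
    have h1 : κ (σ s) = κ' s := by simp [κ]
    rw [h1]
    cases s with
    | inr j =>
      rw [hσr]
      simp only [κ', Sum.elim_inr, ev, map_mul, MvPolynomial.eval₂Hom_C, MvPolynomial.eval₂Hom_X',
        RingHom.coe_coe]
      exact mul_div_cancel₀ _ hδ
    | inl i =>
      rw [hσl]
      simp only [κ', Sum.elim_inl, ev, map_neg, map_sum, map_mul, MvPolynomial.eval₂Hom_C,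
        MvPolynomial.eval₂Hom_X', RingHom.coe_coe]
      let Mφ : Matrix (Fin (n + 1)) (Fin (n + 1)) k := M.map φ
      have hadj : Mφ.adjugate = M.adjugate.map φ := by
        have := (RingHom.map_adjugate (φ : A →+* k) M)
        exact this.symm
      have hdet : Mφ.det = φ M.det := by
        have := (RingHom.map_det (φ : A →+* k) M)
        exact this.symm
      have h2 : Mφ.mulVec (fun i => c (e i)) = fun i' => - ∑ j : τ, c j.1 * φ (v j.1 i') := by
        ext i'
        rw [eq_neg_iff_add_eq_zero]
        have := hc i'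
        rw [← Equiv.sum_comp σ, Fintype.sum_sum_type] at this
        simp only [hσl, hσr] at this
        rw [← this]
        congr 1
        simp only [Matrix.mulVec, dotProduct, Mφ, Matrix.map_apply, M, minorMat, Matrix.of_apply]
        exact Finset.sum_congr rfl fun _ _ => mul_comm _ _
      have h3 := congrArg (Mφ.adjugate.mulVec) h2
      rw [Matrix.mulVec_mulVec, Matrix.adjugate_mul, Matrix.smul_mulVec, Matrix.one_mulVec] at h3
      have h4 := congrFun h3 i
      simp only [Pi.smul_apply, smul_eq_mul, hdet] at h4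
      rw [← mul_right_inj' hδ, h4]
      simp only [Matrix.mulVec, dotProduct, hadj, Matrix.map_apply, map_sum, map_mul]
      rw [mul_neg, Finset.mul_sum]
      simp only [mul_neg, Finset.sum_neg_distrib, neg_inj, Finset.mul_sum, Finset.sum_mul]
      rw [Finset.sum_comm]
      refine Finset.sum_congr rfl fun j _ => Finset.sum_congr rfl fun i' _ => ?_
      field_simp
  have h5 : (ev.comp (MvPolynomial.aeval κ : MvPolynomial ι k →ₐ[k] MvPolynomial τ A).toRingHom) =
      MvPolynomial.eval c := by
    ext x
    · simp [ev]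
    · simp [hev]
  rw [← h5]
  simp [hf]

end Groth.Agent.Lefpen.H708.Minor
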