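import Mathlib.RingTheory.RingHom.StandardSmooth
import Mathlib.RingTheory.AlgebraicIndependent.TranscendenceBasis
import Mathlib.RingTheory.Unramified.Field
import Mathlib.RingTheory.Smooth.Flat
import Mathlib.RingTheory.Flat.TorsionFree

/-!
# Transcendence degree of smooth algebras, and the non-dominance lemma
-/

set_option autoImplicit false

namespace Groth.Agent.Lefpen.H708.Trdeg

open TensorProduct Cardinal

universe u v w

/-- An étale algebra over a domain is algebraic. -/
theorem isAlgebraic_of_etale (P A : Type u) [CommRing P] [IsDomain P] [CommRing A] [Algebra P A]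
    [Algebra.Etale P A] : Algebra.IsAlgebraic P A := by
  let K := FractionRing P
  have h1 : Algebra.Etale K (K ⊗[P] A) := inferInstance
  have h2 : Module.Finite K (K ⊗[P] A) := Algebra.FormallyUnramified.finite_of_free K _
  have h3 : Module.Flat P A := inferInstance
  let f : A →ₐ[P] K ⊗[P] A := Algebra.TensorProduct.includeRight
  have hf : Function.Injective f :=
    Algebra.TensorProduct.includeRight_injective (IsFractionRing.injective P K)
  refine ⟨fun a => ?_⟩
  rw [← isAlgebraic_algHom_iff f hf, IsFractionRing.isAlgebraic_iff P K]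
  exact (Algebra.IsIntegral.isIntegral (R := K) (f a)).isAlgebraic

/-- A domain standard smooth of relative dimension `n` over a field has transcendence degree at most
`n`. -/
theorem trdeg_le (k A : Type u) [Field k] [CommRing A] [IsDomain A] [Algebra k A] (n : ℕ)
    [Algebra.IsStandardSmoothOfRelativeDimension n k A] : Algebra.trdeg k A ≤ n := by
  obtain ⟨g, hg⟩ := Algebra.IsStandardSmoothOfRelativeDimension.exists_etale_mvPolynomial n k A
  let P := MvPolynomial (Fin n) k
  let aPA : Algebra P A := g.toRingHom.toAlgebra
  have hPA : Algebra.Etale P A := hg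
  have : IsScalarTower k P A := .of_algebraMap_eq' g.comp_algebraMap.symm
  have halg : Algebra.IsAlgebraic P A := isAlgebraic_of_etale P A
  have hflat : Module.Flat P A := inferInstance
  have hinj : FaithfulSMul P A := by
    rw [faithfulSMul_iff_algebraMap_injective]
    exact FaithfulSMul.algebraMap_injective P A
  rw [← trdeg_add_eq k P (A := A)]
  rw [trdeg_eq_zero (R := P) (A := A)]
  simp [P]

/-- Non-dominance: `ψ : k[c_ι] → A[t_τ]` is not injective if `n + card τ < card ι`. -/
theorem exists_ne_zero_aeval_eq_zero (k A : Type u) [Field k] [CommRing A] [IsDomain A]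
    [Algebra k A] (n : ℕ) [Algebra.IsStandardSmoothOfRelativeDimension n k A]
    (ι τ : Type) [Fintype ι] [Fintype τ] (hm : n + Fintype.card τ < Fintype.card ι)
    (κ : ι → MvPolynomial τ A) :
    ∃ f : MvPolynomial ι k, f ≠ 0 ∧ MvPolynomial.aeval κ f = 0 := by
  by_contra hcon
  push Not at hcon
  have hind : AlgebraicIndependent k κ := by
    rw [algebraicIndependent_iff]
    intro f hf
    by_contra hf0
    exact hcon f hf0 hf
  have h1 := hind.lift_cardinalMk_le_trdeg
  have h2 := trdeg_add_eq k A (A := MvPolynomial τ A)
  have h3 := trdeg_le k A n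
  rw [← h2] at h1
  simp at h1
  have h4 : (Fintype.card ι : Cardinal.{u}) ≤ n + Fintype.card τ := by
    refine h1.trans ?_
    exact add_le_add_left h3 _
  have h5 : Fintype.card ι ≤ n + Fintype.card τ := by exact_mod_cast h4
  omega

end Groth.Agent.Lefpen.H708.Trdeg
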