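import Groth.Agent.Lefpen.H708.Trdeg
import Mathlib.RingTheory.Ideal.MinimalPrime.Localization

/-!
# The non-dominance lemma without integrality
-/

set_option autoImplicit false

namespace Groth.Agent.Lefpen.H708.TrdegG

open TensorProduct Cardinal

universe u v w

/-- The quotient of an algebra standard smooth of relative dimension `n` over a field by a prime has
transcendence degree at most `n`. -/
theorem trdeg_quotient_le (k A : Type u) [Field k] [CommRing A] [Algebra k A] (n : ℕ)
    [Algebra.IsStandardSmoothOfRelativeDimension n k A] (p : Ideal A) [hp : p.IsPrime] :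
    Algebra.trdeg k (A ⧸ p) ≤ n := by
  obtain ⟨q, hq, hqp⟩ := Ideal.exists_minimalPrimes_le (I := ⊥) (J := p) bot_le
  have hqpr : q.IsPrime := hq.1.1
  refine (trdeg_le_of_surjective (Ideal.Quotient.factorₐ k hqp)
    (Ideal.Quotient.factor_surjective hqp)).trans ?_
  obtain ⟨g, hg⟩ := Algebra.IsStandardSmoothOfRelativeDimension.exists_etale_mvPolynomial n k A
  let P := MvPolynomial (Fin n) k
  let aPA : Algebra P A := g.toRingHom.toAlgebra
  have hPA : Algebra.Etale P A := hg
  have : IsScalarTower k P A := .of_algebraMap_eq' g.comp_algebraMap.symm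
  have halg : Algebra.IsAlgebraic P A := Trdeg.isAlgebraic_of_etale P A
  have hflat : Module.Flat P A := inferInstance
  have : IsScalarTower k P (A ⧸ q) := inferInstance
  have hinj : Function.Injective (algebraMap P (A ⧸ q)) := by
    rw [injective_iff_map_eq_zero]
    intro a ha
    by_contra ha0
    have h1 : algebraMap P A a ∈ q := by
      rw [← Ideal.Quotient.eq_zero_iff_mem]
      exact ha
    have h2 : algebraMap P A a ∈ nonZeroDivisors A := by
      rw [mem_nonZeroDivisors_iff_right]
      intro z hz
      have h3 : IsSMulRegular P a := fun x y hxy => mul_left_cancel₀ ha0 hxy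
      have h4 : IsSMulRegular A a := h3.of_flat
      apply h4
      change a • z = a • 0
      rw [smul_zero, Algebra.smul_def, mul_comm]
      exact hz
    exact Set.disjoint_left.mp (Ideal.disjoint_nonZeroDivisors_of_mem_minimalPrimes
      (p := q) hq) h1 h2
  have hfaith : FaithfulSMul P (A ⧸ q) := by
    rw [faithfulSMul_iff_algebraMap_injective]; exact hinj
  have halg' : Algebra.IsAlgebraic P (A ⧸ q) := by
    refine ⟨fun x => ?_⟩
    obtain ⟨x, rfl⟩ := Ideal.Quotient.mk_surjective x
    exact (halg.isAlgebraic x).algHom (Ideal.Quotient.mkₐ P q)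
  rw [← trdeg_add_eq k P (A := A ⧸ q)]
  rw [trdeg_eq_zero (R := P) (A := A ⧸ q)]
  simp [P]

/-- Non-dominance: `k[c_ι] → A[t_τ]` is not injective if `n + card τ < card ι`. -/
theorem exists_ne_zero_aeval_eq_zero (k A : Type u) [Field k] [CommRing A]
    [Algebra k A] (n : ℕ) [Algebra.IsStandardSmoothOfRelativeDimension n k A]
    (ι τ : Type) [Fintype ι] [Fintype τ] (hm : n + Fintype.card τ < Fintype.card ι)
    (κ : ι → MvPolynomial τ A) :
    ∃ f : MvPolynomial ι k, f ≠ 0 ∧ MvPolynomial.aeval κ f = 0 := by
  by_contra hcon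
  push Not at hcon
  let φ : MvPolynomial ι k →ₐ[k] MvPolynomial τ A := MvPolynomial.aeval κ
  have hφ : Function.Injective φ := by
    rw [injective_iff_map_eq_zero]
    intro f hf
    by_contra hf0
    exact hcon f hf0 hf
  have hbot : (⊥ : Ideal (MvPolynomial ι k)) ∈ minimalPrimes (MvPolynomial ι k) := by
    rw [IsDomain.minimalPrimes_eq_singleton_bot]; rfl
  obtain ⟨q, hqp, hq⟩ := Ideal.exists_comap_eq_of_mem_minimalPrimes_of_injective
    (f := (φ : MvPolynomial ι k →+* MvPolynomial τ A)) hφ _ hbot
  let p : Ideal A := q.comap MvPolynomial.C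
  have hp : p.IsPrime := Ideal.comap_isPrime _ _
  let D := MvPolynomial τ A ⧸ q
  let π : MvPolynomial τ A →ₐ[k] D := Ideal.Quotient.mkₐ k q
  have hinj : Function.Injective (π.comp φ) := by
    rw [injective_iff_map_eq_zero]
    intro f hf
    have h1 : φ f ∈ q := Ideal.Quotient.eq_zero_iff_mem.mp hf
    have h2 : f ∈ q.comap (φ : MvPolynomial ι k →+* MvPolynomial τ A) := h1
    rw [hq] at h2
    exact h2
  have hind : AlgebraicIndependent k (fun a => π (κ a)) := by
    rw [algebraicIndependent_iff_injective_aeval]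
    convert hinj using 1
    ext1 f
    have : (MvPolynomial.aeval fun a => π (κ a)) = π.comp φ := by
      ext a
      simp [φ]
    rw [this]
  have h1 := hind.lift_cardinalMk_le_trdeg
  -- the surjection from a polynomial ring over `A ⧸ p`
  let σ : MvPolynomial τ (A ⧸ p) →ₐ[k] D :=
    { MvPolynomial.eval₂Hom (Ideal.Quotient.lift p ((Ideal.Quotient.mk q).comp MvPolynomial.C)
        (fun a ha => Ideal.Quotient.eq_zero_iff_mem.mpr ha))
        (fun t => Ideal.Quotient.mk q (MvPolynomial.X t)) with
      commutes' := fun r => by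
        change MvPolynomial.eval₂Hom _ _ (algebraMap k (MvPolynomial τ (A ⧸ p)) r) = _
        rw [IsScalarTower.algebraMap_apply k (A ⧸ p) (MvPolynomial τ (A ⧸ p)),
          MvPolynomial.algebraMap_eq, MvPolynomial.eval₂Hom_C]
        rfl }
  have hσ : Function.Surjective σ := by
    intro x
    obtain ⟨x, rfl⟩ := Ideal.Quotient.mk_surjective x
    refine ⟨MvPolynomial.map (Ideal.Quotient.mk p) x, ?_⟩
    change MvPolynomial.eval₂Hom _ _ (MvPolynomial.map (Ideal.Quotient.mk p) x) = _
    have h2 : (MvPolynomial.eval₂Hom (Ideal.Quotient.lift p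
        ((Ideal.Quotient.mk q).comp MvPolynomial.C)
        (fun a ha => Ideal.Quotient.eq_zero_iff_mem.mpr ha))
        (fun t => Ideal.Quotient.mk q (MvPolynomial.X t))).comp
        (MvPolynomial.map (Ideal.Quotient.mk p)) = Ideal.Quotient.mk q := by
      apply MvPolynomial.ringHom_ext
      · intro r; simp
      · intro t; simp
    exact congrArg (fun f : MvPolynomial τ A →+* D => f x) h2
  have h2 := trdeg_le_of_surjective σ hσ
  have h3 := trdeg_quotient_le k A n p
  have h4 := trdeg_add_eq k (A ⧸ p) (A := MvPolynomial τ (A ⧸ p))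
  rw [← h4] at h2
  simp only [MvPolynomial.trdeg_of_isDomain] at h2
  simp only [Cardinal.mk_fintype, Cardinal.lift_natCast] at h1 h2
  rw [Cardinal.lift_uzero] at h1
  have h5 : (Fintype.card ι : Cardinal.{u}) ≤ n + Fintype.card τ :=
    h1.trans (h2.trans (add_le_add_left h3 _))
  have h6 : Fintype.card ι ≤ n + Fintype.card τ := by exact_mod_cast h5
  omega

end Groth.Agent.Lefpen.H708.TrdegG
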